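/-
P25: fixed point free nilpotent operator groups; supplements contain a conjugate of the operator group.
-/
import Cfsg.Agent.FT.B.Act
import Cfsg.Agent.L.MinNormal

set_option autoImplicit false
set_option linter.unusedSectionVars false
set_option linter.style.haveILetI false

namespace Cfsg.Agent.P25

open Subgroup Cfsg Cfsg.Agent Cfsg.Agent.FT
open scoped commutatorElement

universe u

variable {X : Type u} [Group X] [Finite X]

theorem cn {P : Subgroup X} {g q : X} (hg : g ∈ 𝐍(P)) (hq : q ∈ P) : g * q * g⁻¹ ∈ P :=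
  (mem_normalizer_iff.1 hg q).1 hq

theorem cn' {P : Subgroup X} {g q : X} (hg : g ∈ 𝐍(P)) (hq : q ∈ P) : g⁻¹ * q * g ∈ P := by
  simpa using cn (inv_mem hg) hq

theorem norm_cent {A K : Subgroup X} (h : A ≤ 𝐍(K)) : A ≤ 𝐍(𝐂(K)) := H1.le_normalizer_centralizer h

theorem norm_inf {A K L : Subgroup X} (h : A ≤ 𝐍(K)) (h' : A ≤ 𝐍(L)) : A ≤ 𝐍((K ⊓ L : Subgroup X)) :=
  H1.le_normalizer_inf h h'

/-- The `p'`-part of `A` has no fixed points on a `p`-group. -/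
theorem fpf_part {A V : Subgroup X} {p : ℕ} (hp : p.Prime) (hA : Group.IsNilpotent A)
    (hV : IsPGroup p V) (hn : A ≤ 𝐍(V)) (h : V ⊓ 𝐂(A) = ⊥) :
    V ⊓ 𝐂(H2.pPrimeCoreOf p A) = ⊥ := by
  by_contra e
  have d := dProd_pCoreOf_of_isNilpotent hp hA
  have n : pCoreOf p A ≤ 𝐍((V ⊓ 𝐂(H2.pPrimeCoreOf p A) : Subgroup X)) :=
    d.le_left.trans (norm_inf hn (norm_cent d.normal_right.2))
  refine inf_center_ne_bot (isNilpotent_of_isPGroup hp (isPGroup_sup (isSyl_pCoreOf_of_isNilpotent hp hA).pgrp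
    (hV.to_le inf_le_left) n)) ⟨le_sup_right, sup_le n (le_norm_self _)⟩ e (eq_bot_iff.2 fun x hx => ?_)
  rw [← h, ← d.sup, cent_sup]
  exact ⟨hx.1.1, cent_anti le_sup_left hx.2, hx.1.2⟩

/-- Glauberman's lemma for a fixed point free nilpotent group acting on a `p`-group. -/
theorem fixV {Ω : Type*} [MulAction X Ω] {A V : Subgroup X} {p : ℕ} (hp : p.Prime)
    (hA : Group.IsNilpotent A) (hV : IsPGroup p V) (hn : A ≤ 𝐍(V)) (h : V ⊓ 𝐂(A) = ⊥) (ω : Ω)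
    (hω : ∀ a ∈ A, ∃ v ∈ V, a • ω = v • ω) : ∃ v ∈ V, ∀ a ∈ A, a • v • ω = v • ω := by
  have d := (dProd_pCoreOf_of_isNilpotent hp hA).normal_right
  have c : 𝐨(H2.pPrimeCoreOf p A).Coprime 𝐨(V) := by
    obtain ⟨n, hn⟩ := exists_card_eq_pow hp hV
    rw [hn]
    exact ((Nat.coprime_comm.1 (hp.coprime_iff_not_dvd.2 (not_dvd_card_pPrimeCoreOf hp A)))).pow_right n
  have s := isSolvable_of_isNilpotent (isNilpotent_of_isPGroup hp hV)
  obtain ⟨v, hv, e⟩ := H1.glauberman_exists_fixed (d.1.trans hn) c (.inr s) ω fun a ha => hω a (d.1 ha)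
  refine ⟨v, hv, fun a ha => ?_⟩
  obtain ⟨w, hw, e2⟩ := hω a ha
  have e3 : a • v • ω = (a * v * a⁻¹ * w * v⁻¹) • v • ω := by
    rw [mul_smul _ v⁻¹, inv_smul_smul, mul_smul, ← e2, smul_smul, smul_smul, inv_mul_cancel_right]
  obtain ⟨c, hc, e4⟩ := H1.glauberman_conj (d.1.trans hn) c (.inr s) (v • ω) e
    (mul_mem (mul_mem (cn (hn ha) hv) hw) (inv_mem hv)) fun y hy => by
      rw [← e3]
      conv_rhs => rw [← e _ (cn' (d.2 ha) hy)]
      simp only [smul_smul, mul_assoc, mul_inv_cancel_left]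
  rw [fpf_part hp hA hV hn h, mem_bot] at hc
  rw [e3, ← e4, hc, one_smul]

theorem supV {A H V : Subgroup X} {p : ℕ} (hp : p.Prime) (hA : Group.IsNilpotent A)
    (hV : IsPGroup p V) (hn : A ≤ 𝐍(V)) (h : V ⊓ 𝐂(A) = ⊥)
    (hc : ∀ a ∈ A, ∃ v ∈ V, v⁻¹ * a ∈ H) : ∃ v ∈ V, ∀ a ∈ A, v⁻¹ * a * v ∈ H := by
  obtain ⟨v, hv, e⟩ := fixV hp hA hV hn h ((1 : X) : X ⧸ H) fun a ha => by
    obtain ⟨v, hv, e⟩ := hc a ha
    refine ⟨v, hv, (QuotientGroup.eq.2 ?_).symm⟩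
    simpa using e
  refine ⟨v, hv, fun a ha => ?_⟩
  have := QuotientGroup.eq.1 (e a ha).symm
  simpa [mul_assoc] using this

theorem disj {A V : Subgroup X} (hA : Group.IsNilpotent A) (hn : A ≤ 𝐍(V)) (h : V ⊓ 𝐂(A) = ⊥) :
    V ⊓ A = ⊥ := by
  by_contra e
  exact inf_center_ne_bot hA ⟨inf_le_right, norm_inf hn (le_norm_self A)⟩ e
    (eq_bot_iff.2 (h ▸ inf_le_inf_right _ inf_le_left))

theorem covV {A V : Subgroup X} {p : ℕ} (hp : p.Prime) (hA : Group.IsNilpotent A)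
    (hV : IsPGroup p V) (hn : A ≤ 𝐍(V)) (h : V ⊓ 𝐂(A) = ⊥) {g : X} (hg : g ∈ 𝐍(V))
    (hc : ∀ a ∈ A, ⁅a, g⁆ ∈ V) : ∃ v ∈ V, v * g ∈ 𝐂(A) := by
  obtain ⟨v, hv, e⟩ := supV (H := A ^ᵍ g) hp hA hV hn h fun a ha =>
    ⟨_, hc a ha, by simpa [commutatorElement_def, mul_assoc] using conj_mem_conj ha g⟩
  refine ⟨v, hv, mem_cent.2 fun a ha => ?_⟩
  have e1 : g⁻¹ * (v⁻¹ * a * v) * g * a⁻¹ ∈ V ⊓ A := by
    refine mem_inf.2 ⟨?_, mul_mem (mem_conj.1 (e a ha)) (inv_mem ha)⟩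
    have := cn' hg (mul_mem (mul_mem (inv_mem hv) (cn (hn ha) hv)) (hc a ha))
    convert this using 1
    simp only [commutatorElement_def]; group
  rw [disj hA hn h, mem_bot] at e1
  calc _ = v * g * (g⁻¹ * (v⁻¹ * a * v) * g * a⁻¹) * a := by group
    _ = _ := by rw [e1, mul_one]

theorem mem_cent_map {Y : Type*} [Group Y] {f : X →* Y} {A : Subgroup X} {g : X} :
    f g ∈ 𝐂(A.map f) ↔ ∀ a ∈ A, ⁅a, g⁆ ∈ f.ker := by
  simp only [mem_centralizer_iff, SetLike.mem_coe, MonoidHom.mem_ker, map_commutatorElement,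
    commutatorElement_eq_one_iff_mul_comm]
  exact ⟨fun h a ha => h _ ⟨a, ha, rfl⟩, by rintro h _ ⟨a, ha, rfl⟩; exact h a ha⟩

/-- Fixed point freeness passes to the quotient by a normal `p`-subgroup. -/
theorem fpf_map {Y : Type*} [Group Y] {f : X →* Y} {A G : Subgroup X} {p : ℕ} (hp : p.Prime)
    (hA : Group.IsNilpotent A) (hV : IsPGroup p f.ker) (hG : f.ker ≤ G) (h : G ⊓ 𝐂(A) = ⊥) :
    G.map f ⊓ 𝐂(A.map f) = ⊥ := eq_bot_iff.2 <| by
  rintro _ ⟨⟨g, hg, rfl⟩, hc⟩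
  obtain ⟨v, hv, e⟩ := covV hp hA hV le_normalizer_of_normal
    (eq_bot_iff.2 (h ▸ inf_le_inf_right _ hG)) (le_normalizer_of_normal (mem_top g)) (mem_cent_map.1 hc)
  have : v * g ∈ G ⊓ 𝐂(A) := ⟨mul_mem (hG hv) hg, e⟩
  rw [h, mem_bot] at this
  rw [mem_bot, eq_inv_of_mul_eq_one_right this, map_inv, MonoidHom.mem_ker.1 hv, inv_one]

theorem sup_aux (n : ℕ) : ∀ (X : Type u) [Group X] [Finite X], Nat.card X = n →
    ∀ N A H : Subgroup X, N.Normal → Group.IsSolvable N → Group.IsNilpotent A → N ⊓ 𝐂(A) = ⊥ →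
      A ≤ N ⊔ H → ∃ g ∈ N, A ^ᵍ g ≤ H := by
  induction n using Nat.strong_induction_on with
  | _ n ih =>
  intro X _ _ hX N A H nrm sol hA h le
  by_cases e : N = ⊥
  · exact ⟨1, one_mem _, by rwa [conj_one, ← bot_sup_eq H, ← e]⟩
  obtain ⟨V, p, hV, VN, hp, el⟩ := L.exists_isMinNormal_isElementaryAbelian_le N e
  haveI := hV.1
  have pV := L.IsElementaryAbelian.isPGroup el
  have k := QuotientGroup.ker_mk' V
  obtain ⟨_, ⟨g, hg, rfl⟩, e2⟩ := ih _ (hX ▸ L.card_quotient_lt V hV.2.1) (X ⧸ V) rfl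
    (N.map (QuotientGroup.mk' V)) (A.map (QuotientGroup.mk' V)) (H.map (QuotientGroup.mk' V))
    (nrm.map _ (QuotientGroup.mk'_surjective V)) (L.isSolvable_map _ _) (L.isNilpotent_map _ _)
    (fpf_map hp hA (k.symm ▸ pV) (k.symm ▸ VN) h) (by rw [← Subgroup.map_sup]; exact map_mono le)
  obtain ⟨v, hv, e3⟩ := supV (A := A ^ᵍ g) (H := H) hp ((isNilpotent_map_iff (conj_injective g)).2 hA)
    pV le_normalizer_of_normal (by
      rw [cent_conj, ← conj_eq_of_mem_norm (le_normalizer_of_normal (mem_top g) : g ∈ 𝐍(V)),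
        ← conj_inf, conj_eq_bot_iff]
      exact eq_bot_iff.2 (h ▸ inf_le_inf_right _ VN)) (by
      rintro _ ⟨a, ha, rfl⟩
      obtain ⟨y, hy, e4⟩ := e2 (conj_mem_conj (mem_map_of_mem (QuotientGroup.mk' V) ha) _)
      rw [← map_inv, ← map_mul, ← map_mul, eq_comm, ← mul_inv_eq_one, ← map_inv, ← map_mul,
        ← MonoidHom.mem_ker, k] at e4
      exact ⟨_, e4, by simpa [mul_assoc] using hy⟩)
  refine ⟨v⁻¹ * g, mul_mem (inv_mem (VN hv)) hg, ?_⟩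
  rw [← conj_conj]
  rintro _ ⟨a, ha, rfl⟩
  simpa using e3 a ha

/-- A supplement to a solvable group contains a conjugate of the operator group. -/
theorem sup_solv {N A H : Subgroup X} (sol : Group.IsSolvable N) (hA : Group.IsNilpotent A)
    (hn : H ≤ 𝐍(N)) (h : N ⊓ 𝐂(A) = ⊥) (le : A ≤ N ⊔ H) : ∃ g ∈ N, A ^ᵍ g ≤ H := by
  have l1 : N ≤ 𝐍(N) := le_norm_self N
  have l2 : A ≤ 𝐍(N) := le.trans (sup_le l1 hn)
  have i := 𝐍(N).subtype_injective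
  have m := fun (K : Subgroup X) (h : K ≤ 𝐍(N)) => map_subgroupOf_eq_of_le h
  obtain ⟨g, hg, e⟩ := sup_aux _ 𝐍(N) rfl (N.subgroupOf _) (A.subgroupOf _) (H.subgroupOf _)
    (H1.normal_subgroupOf_of_le le_rfl) ((isSolvable_map_iff i).1 (by rwa [m N l1]))
    ((isNilpotent_map_iff i).1 (by rwa [m A l2]))
    ((Subgroup.map_eq_bot_iff_of_injective _ i).1 (by rw [map_inf_cent i, m N l1, m A l2, h]))
    ((map_le_map_iff_of_injective i).1 (by rwa [Subgroup.map_sup, m N l1, m A l2, m H hn]))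
  refine ⟨g, hg, ?_⟩
  rintro _ ⟨a, ha, rfl⟩
  exact e (conj_mem_conj (x := ⟨a, l2 ha⟩) ha g)

end Cfsg.Agent.P25
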