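/-
P25: a group with a fixed point free nilpotent group of operators is solvable, given the theorem INV.
-/
import Cfsg.Agent.P25.Sup
import Cfsg.Agent.P24.Defs
import Cfsg.Agent.H9.FpfRed

set_option autoImplicit false
set_option linter.unusedSectionVars false
set_option linter.style.haveILetI false

namespace Cfsg.Agent.P25

open Subgroup Cfsg Cfsg.Agent Cfsg.Agent.FT
open scoped commutatorElement

universe u

/-- The theorem INV for nilpotent factor groups. -/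
def InvN : Prop := ∀ (X : Type u) [Group X] [Finite X] (G : Subgroup X) [G.Normal],
  Group.IsNilpotent (X ⧸ G) → (∀ t ∈ G, t * t = 1 → t ≠ 1 → G ⊔ 𝐂[t] ≠ ⊤) → Group.IsSolvable G

/-- The theorem for groups of order `n`. -/
def St (n : ℕ) : Prop := ∀ (X : Type u) [Group X] [Finite X] (G A : Subgroup X), 𝐨(G) = n →
  A ≤ 𝐍(G) → Group.IsNilpotent A → G ⊓ 𝐂(A) = ⊥ → Group.IsSolvable G

variable {X : Type u} [Group X] [Finite X]

theorem fpf_conj {G A K : Subgroup X} [G.Normal] (h : G ⊓ 𝐂(A) = ⊥) (hK : K ≤ G) (g : X) :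
    K ⊓ 𝐂(A ^ᵍ g) = ⊥ := by
  refine eq_bot_iff.2 ((inf_le_inf_right _ hK).trans ?_)
  rw [cent_conj, ← conj_eq_of_mem_norm (le_normalizer_of_normal (mem_top g) : g ∈ 𝐍(G)), ← conj_inf, h,
    conj_bot]

theorem le_cent_of_le_sup {G A P : Subgroup X} [G.Normal] (hA : Group.IsNilpotent A)
    (h : G ⊓ 𝐂(A) = ⊥) (hZ : G ⊓ 𝐂(G) = ⊥) (hP : P ⊲ A) (le : P ≤ G ⊔ 𝐂(G)) : P ≤ 𝐂(G) := by
  by_contra n
  obtain ⟨M, ⟨m1, m2, m3⟩, mn⟩ := exists_minimal_of_wellFoundedLT
    (fun M : Subgroup X => M ≤ P ∧ A ≤ 𝐍(M) ∧ ¬ M ≤ 𝐂(G)) ⟨P, le_rfl, hP.2, n⟩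
  haveI := hA
  have lt := L.commutator_lt_of_isNilpotent (m1.trans hP.1) m2 fun e => m3 (e ▸ bot_le)
  have c : ⁅M, A⁆ ≤ 𝐂(G) := by_contra fun e =>
    lt.not_ge (mn ⟨lt.le.trans m1, H1.le_normalizer_commutator_self, e⟩ lt.le)
  refine m3 fun a ha => ?_
  obtain ⟨g, hg, x, hx, rfl⟩ := (mem_sup_of_norm le_normalizer_of_normal).1 (le (m1 ha))
  have : g ∈ G ⊓ 𝐂(A) := ⟨hg, mem_cent.2 fun b hb => by
    have e : ⁅g, b⁆ ∈ G ⊓ 𝐂(G) := by
      refine mem_inf.2 ⟨?_, ?_⟩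
      · rw [commutatorElement_def, mul_assoc, mul_assoc, ← mul_assoc b]
        exact mul_mem hg (Normal.conj_mem inferInstance _ (inv_mem hg) b)
      · have := mul_mem (Normal.conj_mem inferInstance _ (mul_mem (inv_mem hx)
          (Normal.conj_mem inferInstance _ hx b)) (g * x)) (c (commutator_mem_commutator ha hb))
        convert this using 1
        simp only [commutatorElement_def]; group
    rw [hZ, mem_bot] at e
    exact (commutatorElement_eq_one_iff_mul_comm.1 e).symm⟩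
  rw [h, mem_bot] at this
  rwa [this, one_mul]

theorem core (INV : InvN.{u}) {G A : Subgroup X} [G.Normal] (top : G ⊔ A = ⊤)
    (hA : Group.IsNilpotent A) (h : G ⊓ 𝐂(A) = ⊥) (ih : ∀ m < 𝐨(G), St.{u} m) :
    Group.IsSolvable G := by
  by_contra ns
  have nA : ∀ g, Group.IsNilpotent (A ^ᵍ g) := fun g => (isNilpotent_map_iff (conj_injective g)).2 hA
  have noN : ∀ N : Subgroup X, ⊤ ≤ 𝐍(N) → N ≤ G → Group.IsNilpotent N → N = ⊥ := fun N n1 n2 n3 => by
    by_contra e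
    haveI := normal_iff_top_le.2 n1
    haveI := isSolvable_of_isNilpotent n3
    obtain ⟨V, p, hV, VN, hp, el⟩ := L.exists_isMinNormal_isElementaryAbelian_le N e
    haveI := hV.1
    haveI := L.isSolvable_of_le VN
    have k := QuotientGroup.ker_mk' V
    refine ns (L.isSolvable_of_map_mk' V G (ih _ ?_ _ _ (A.map (QuotientGroup.mk' V)) rfl
      ((map_mono le_normalizer_of_normal).trans (le_normalizer_map _)) (L.isNilpotent_map _ _)
      (fpf_map hp hA (k.symm ▸ L.IsElementaryAbelian.isPGroup el) (k.symm ▸ VN.trans n2) h)))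
    rw [L.card_eq_card_map_mk'_mul V G (VN.trans n2)]
    exact lt_mul_of_one_lt_right Nat.card_pos (one_lt_card_iff_ne_bot _ |>.2 hV.2.1)
  have hZ : G ⊓ 𝐂(G) = ⊥ := noN _ (normal_iff_top_le.1 inferInstance) inf_le_left
    (isNilpotent_of_isMulComm (isMulComm_center G))
  obtain ⟨p, hp, hP⟩ : ∃ p : ℕ, p.Prime ∧ ¬ pCoreOf p A ≤ 𝐂(G) := by
    by_contra! e
    have := cent_comm.1 (le_of_forall_isSyl_le (K := 𝐂(G)) fun p hp P hP =>
      hP.eq_pCoreOf_of_isNilpotent hp hA ▸ e p hp)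
    rw [inf_eq_left.2 this] at h
    exact ns (h ▸ inferInstance)
  haveI := Fact.mk hp
  obtain ⟨K, hK⟩ : ∃ K, K = G ⊔ pCoreOf p A := ⟨_, rfl⟩
  have GK : G ≤ K := hK ▸ le_sup_left
  have pP := (isSyl_pCoreOf_of_isNilpotent hp hA).pgrp
  have nK : ⊤ ≤ 𝐍(K) := top ▸ sup_le (GK.trans (le_norm_self K))
    (hK ▸ H1.le_normalizer_sup le_normalizer_of_normal (pCoreOf_normal p A).2)
  have tr : ∀ S : Subgroup X, IsPGroup p S → G ⊔ S = K → (∃ g, A ^ᵍ g ≤ 𝐍(S)) → ∀ H ≤ 𝐍(S),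
      G ⊔ H = ⊤ → ∃ g, A ^ᵍ g ≤ H := by
    rintro S s1 s2 ⟨g, hg⟩ H hH tH
    have lt : G ⊓ 𝐍(S) < G := lt_of_le_of_ne inf_le_left fun e => by
      have n : G ≤ 𝐍(S) := inf_eq_left.1 e
      have b : pCoreOf p G = ⊥ := noN _ (le_normalizer_of_normal.trans
        (H2.normalizer_le_normalizer_pCoreOf p G)) (pCoreOf_normal p G).1
        (isNilpotent_of_isPGroup hp (H2.isPGroup_pCoreOf p G))
      have d : G ⊓ S = ⊥ := eq_bot_iff.2 (b ▸ le_pCoreOf
        ⟨inf_le_left, norm_inf (le_norm_self G) n⟩ (s1.to_le inf_le_right))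
      exact hP (le_cent_of_le_sup hA h hZ (pCoreOf_normal p A) ((le_sup_right.trans (hK.ge.trans s2.ge)).trans
        (sup_le_sup_left (le_cent_of_norm_of_disj le_normalizer_of_normal n d) G)))
    have nn : 𝐍(S) ≤ 𝐍((G ⊓ 𝐍(S) : Subgroup X)) := norm_inf le_normalizer_of_normal (le_norm_self _)
    have f := fpf_conj h lt.le g
    obtain ⟨x, -, e⟩ := sup_solv (ih _ (L.card_lt_of_lt lt) X _ _ rfl (hg.trans nn) (nA g) f) (nA g)
      (hH.trans nn) f (by rwa [← sup_inf_of_le_right le_normalizer_of_normal hH, tH, top_inf_eq])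
    exact ⟨_, conj_conj A x g ▸ e⟩
  have fr : ∀ H : Subgroup X, G ⊔ H = ⊤ → ∀ S, IsSyl p S (K ⊓ H) →
      G ⊔ S = K ∧ G ⊔ (H ⊓ 𝐍(S)) = ⊤ := fun H tH S hS => by
    have e1 : G ⊔ (K ⊓ H) = K := by
      rw [inf_comm, ← sup_inf_of_le_left le_normalizer_of_normal GK, tH, top_inf_eq]
    have e2 := congrArg (comap (QuotientGroup.mk' G)) (H9.map_eq_of_sylow (QuotientGroup.mk' G) hS.le
      hS.ndvd ((pP.map (QuotientGroup.mk' G)).to_le ((map_mono inf_le_left).trans (by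
        rw [hK, Subgroup.map_sup, QuotientGroup.map_mk'_self, bot_sup_eq]))))
    rw [comap_map_eq, comap_map_eq, QuotientGroup.ker_mk', sup_comm _ G, sup_comm _ G, e1] at e2
    refine ⟨e2, top_le_iff.1 (tH.ge.trans (sup_le le_sup_left ?_))⟩
    rw [← hS.frattini hp ⟨inf_le_right, norm_inf (le_top.trans nK) (le_norm_self H)⟩]
    refine sup_le (inf_le_left.trans (e2.ge.trans (sup_le_sup_left ?_ G))) ?_
    · rw [hS.frattini hp ⟨inf_le_right, norm_inf (le_top.trans nK) (le_norm_self H)⟩]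
      exact le_inf (hS.le.trans inf_le_right) (le_norm_self S)
    · rw [hS.frattini hp ⟨inf_le_right, norm_inf (le_top.trans nK) (le_norm_self H)⟩]
      exact le_sup_right
  have step : ∀ S : Subgroup X, IsPGroup p S → G ⊔ S = K → G ⊔ 𝐍(S) = ⊤ → ∃ T, IsSyl p T K ∧
      ((∃ g, A ^ᵍ g ≤ 𝐍(S)) ↔ ∃ g, A ^ᵍ g ≤ 𝐍(T)) := fun S => by
    induction S using WellFoundedGT.induction with
    | ind S ihS =>
    intro s1 s2 s3
    obtain ⟨S', h1, h2⟩ := exists_isSyl_ge hp s1 (le_inf (s2 ▸ le_sup_right) (le_norm_self S))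
    rcases h2.eq_or_lt with rfl | lt
    · exact ⟨S, h1.of_norm hp, Iff.rfl⟩
    obtain ⟨f1, f2⟩ := fr _ s3 S' h1
    obtain ⟨T, t1, t2⟩ := ihS S' lt h1.pgrp f1 (top_le_iff.1 (f2.ge.trans (sup_le_sup_left inf_le_right G)))
    refine ⟨T, t1, Iff.trans ⟨fun e => ?_, fun e => ?_⟩ t2⟩
    · exact (tr S s1 s2 e _ inf_le_left f2).imp fun g hg => hg.trans inf_le_right
    · exact (tr S' h1.pgrp f1 e _ inf_le_right f2).imp fun g hg => hg.trans inf_le_left
  obtain ⟨T, t1, t2⟩ := step _ pP hK.symm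
    (top_le_iff.1 (top.ge.trans (sup_le_sup_left (pCoreOf_normal p A).2 G)))
  obtain ⟨g, hg⟩ := t2.1 ⟨1, by rw [conj_one]; exact (pCoreOf_normal p A).2⟩
  refine ns (INV X G (Group.nilpotent_of_surjective ((QuotientGroup.mk' G).comp A.subtype) fun y => ?_)
    fun t ht _ t1' tH => t1' ?_)
  · obtain ⟨x, rfl⟩ := QuotientGroup.mk'_surjective G y
    obtain ⟨a, ha, b, hb, rfl⟩ := (mem_sup_of_norm' le_normalizer_of_normal).1 (top.ge (mem_top x))
    exact ⟨⟨a, ha⟩, (QuotientGroup.mk_mul_of_mem a hb).symm⟩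
  obtain ⟨S, hS⟩ := exists_isSyl hp (K ⊓ 𝐂[t])
  obtain ⟨f1, f2⟩ := fr _ tH S hS
  obtain ⟨T', u1, u2⟩ := step S hS.pgrp f1 (top_le_iff.1 (f2.ge.trans (sup_le_sup_left inf_le_right G)))
  obtain ⟨x, -, rfl⟩ := u1.exists_conj_eq hp t1
  obtain ⟨y, hy⟩ := tr S hS.pgrp f1 (u2.2 ⟨x * g, by
    rw [← conj_conj, norm_conj]; exact conj_mono hg x⟩) _ inf_le_right f2
  exact mem_bot.1 (fpf_conj h le_rfl y ▸ ⟨ht, mem_cent_iff_cent1.2 (hy.trans inf_le_left)⟩)

theorem st (INV : InvN.{u}) (n : ℕ) : St.{u} n := by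
  induction n using Nat.strong_induction_on with
  | _ n ih =>
  intro X _ _ G A hn hA nil h
  have i := (G ⊔ A).subtype_injective
  have m := fun (K : Subgroup X) (h : K ≤ G ⊔ A) => map_subgroupOf_eq_of_le h
  haveI : (G.subgroupOf (G ⊔ A)).Normal :=
    H1.normal_subgroupOf_of_le (sup_le (le_norm_self G) hA)
  rw [← m G le_sup_left, isSolvable_map_iff i]
  refine core INV (A := A.subgroupOf _) (map_injective i ?_)
    ((isNilpotent_map_iff i).1 (by rwa [m A le_sup_right]))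
    ((Subgroup.map_eq_bot_iff_of_injective _ i).1
      (by rw [map_inf_cent i, m G le_sup_left, m A le_sup_right, h])) fun k hk => ih k ?_
  · rw [Subgroup.map_sup, m G le_sup_left, m A le_sup_right, ← MonoidHom.range_eq_map, range_subtype]
  · rwa [← card_map_inj i, m G le_sup_left, hn] at hk

theorem fpf (INV : InvN.{u}) : P24.FpfStmt.{u} := by
  intro G _ _ B hB h
  have := st INV _ (G ⋊[B.subtype] B) (H1.sdL B.subtype ⊤) (H1.sdR B.subtype ⊤) rfl
    le_normalizer_of_normal ((isNilpotent_map_iff SemidirectProduct.inr_injective).2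
      (Group.nilpotent_of_mulEquiv topEquiv.symm)) (by
      rw [H1.sdL_inf_centralizer, H1.sdL_eq_bot, eq_bot_iff]
      exact fun g hg => h g fun b hb => H1.mem_fixedSub.1 hg.2 ⟨b, hb⟩ trivial)
  rw [isSolvable_map_iff SemidirectProduct.inl_injective] at this
  exact L.isSolvable_of_mulEquiv (topEquiv (G := G))

end Cfsg.Agent.P25
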