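/-
P25: Fitting subgroup and Fitting height of the fixed points of a complement, generic reduction.
-/
import Cfsg.Agent.P25.Sup
import Cfsg.Agent.P24.Defs
import Cfsg.Agent.H9.FpfRed
import Cfsg.Agent.L.FittingHeight

set_option autoImplicit false
set_option linter.unusedSectionVars false
set_option linter.style.haveILetI false

namespace Cfsg.Agent.P25

open Subgroup Cfsg Cfsg.Agent Cfsg.Agent.FT QuotientGroup
open scoped commutatorElement

universe u v

variable {A : Type v} [Group A] [Finite A] (F H : Subgroup A) (m : ℕ)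

/-- `A` acts on the solvable normal subgroup `G`, with `F` fixed point free. -/
structure Cl {X : Type u} [Group X] (G : Subgroup X) (i : A →* X) : Prop where
  nrm : G.Normal
  sol : Group.IsSolvable G
  inj : ∀ a, i a ∈ G → a = 1
  fpf : G ⊓ 𝐂(F.map i) = ⊥
  cop : 𝐨(G).Coprime m

/-- Fixed points of `H` lift from the quotient by an elementary abelian subgroup. -/
def Quo : Prop := ∀ (X : Type u) [Group X] [Finite X] (V : Subgroup X) (i : A →* X) (p : ℕ),
  Cl F m V i → IsElementaryAbelian p V → ∀ g, (∀ h ∈ H.map i, g⁻¹ * (h * g * h⁻¹) ∈ V) →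
    ∃ v ∈ V, g * v ∈ 𝐂(H.map i)

/-- The key statement. -/
def Ker : Prop := ∀ (X : Type u) [Group X] [Finite X] (N V : Subgroup X) [V.Normal] (i : A →* X)
  (p q : ℕ), Cl F m N i → V ≤ N → V ≠ ⊥ → p.Prime → q.Prime → p ≠ q → IsElementaryAbelian p V →
  IsPGroup q (N.map (mk' V)) → N ⊓ 𝐂(V) ≤ V → ∀ c ∈ N ⊓ 𝐂(H.map i),
  V ⊓ 𝐂(H.map i) ≤ 𝐂[c] → c ∈ V

/-- `H` has fixed points. -/
def Base : Prop := ∀ (X : Type u) [Group X] [Finite X] (V : Subgroup X) (i : A →* X) (p : ℕ),
  Cl F m V i → p.Prime → IsElementaryAbelian p V → V ⊓ 𝐂(H.map i) = ⊥ → V = ⊥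

variable {F H m} {X Y : Type u} [Group X] [Finite X] [Group Y] [Finite Y] {G : Subgroup X}
  {i : A →* X}

theorem Cl.mono (h : Cl F m G i) {V : Subgroup X} [hn : V.Normal] (hV : V ≤ G) : Cl F m V i :=
  ⟨hn, H1.isSolvable_of_le hV h.sol, fun a ha => h.inj a (hV ha),
    eq_bot_iff.2 (h.fpf ▸ inf_le_inf_right _ hV), h.cop.coprime_dvd_left (FT.card_dvd_of_le hV)⟩

theorem Cl.injective (h : Cl F m G i) : Function.Injective i :=
  (injective_iff_map_eq_one i).2 fun a e => h.inj a (e ▸ one_mem G)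

theorem Cl.map (hF : Group.IsNilpotent F) (h : Cl F m G i) {f : X →* Y} (hf : Function.Surjective f)
    {p : ℕ} (hp : p.Prime) (hk : IsPGroup p f.ker) (hG : f.ker ≤ G) :
    Cl F m (G.map f) (f.comp i) :=
  ⟨h.nrm.map f hf, H1.isSolvable_map f h.sol,
    fun a ha => h.inj a ((comap_map_eq_self hG).le (mem_comap.2 ha)),
    Subgroup.map_map F f i ▸ fpf_map hp (L.isNilpotent_map _ _) hk hG h.fpf,
    h.cop.coprime_dvd_left (card_map_dvd _ _)⟩

theorem Cl.mapq (hF : Group.IsNilpotent F) (h : Cl F m G i) {V : Subgroup X} [V.Normal] {p : ℕ}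
    (hp : p.Prime) (el : IsElementaryAbelian p V) (hV : V ≤ G) :
    Cl F m (G.map (mk' V)) ((mk' V).comp i) :=
  h.map hF (mk'_surjective V) hp ((ker_mk' V).symm ▸ L.IsElementaryAbelian.isPGroup el)
    ((ker_mk' V).symm ▸ hV)

theorem map_cent_le (f : X →* Y) (G B : Subgroup X) : (G ⊓ 𝐂(B)).map f ≤ G.map f ⊓ 𝐂(B.map f) := by
  rintro _ ⟨x, hx, rfl⟩
  exact ⟨⟨x, hx.1, rfl⟩, mem_cent_map.2 fun a ha => by
    rw [commutatorElement_eq_one_iff_mul_comm.2 (mem_cent.1 hx.2 a ha)]; exact one_mem _⟩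

theorem quo1 (quo : Quo.{u} F H m) (h : Cl F m G i) {V : Subgroup X} [V.Normal] {p : ℕ}
    (el : IsElementaryAbelian p V) (hV : V ≤ G) :
    G.map (mk' V) ⊓ 𝐂(H.map ((mk' V).comp i)) = (G ⊓ 𝐂(H.map i)).map (mk' V) := by
  rw [← Subgroup.map_map]
  refine le_antisymm ?_ (map_cent_le _ _ _)
  rintro _ ⟨⟨g, hg, rfl⟩, hc⟩
  obtain ⟨v, hv, e⟩ := quo X V i p (h.mono hV) el g fun b hb => by
    have := Normal.conj_mem inferInstance _ (ker_mk' V ▸ mem_cent_map.1 hc b hb) g⁻¹
    simpa [commutatorElement_def, mul_assoc] using this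
  exact ⟨g * v, ⟨mul_mem hg (hV hv), e⟩, mk_mul_of_mem g hv⟩

theorem quoN (hF : Group.IsNilpotent F) (quo : Quo.{u} F H m) (n : ℕ) :
    ∀ (X : Type u) [Group X] [Finite X] (G : Subgroup X) (i : A →* X) (f : X →* Y),
    Nat.card X = n → Cl F m G i → Function.Surjective f → f.ker ≤ G →
    Cl F m (G.map f) (f.comp i) ∧ G.map f ⊓ 𝐂(H.map (f.comp i)) = (G ⊓ 𝐂(H.map i)).map f := by
  induction n using Nat.strong_induction_on with
  | _ n ih =>
  intro X _ _ G i f hn h hf hk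
  by_cases e : f.ker = ⊥
  · exact ⟨h.map hF hf Nat.prime_two (e ▸ IsPGroup.of_bot) hk, by
      rw [map_inf_cent ((MonoidHom.ker_eq_bot_iff f).1 e), Subgroup.map_map]⟩
  haveI := H1.isSolvable_of_le hk h.sol
  obtain ⟨V, p, hV, Vk, hp, el⟩ := L.exists_isMinNormal_isElementaryAbelian_le f.ker e
  haveI := hV.1
  have e : (QuotientGroup.lift V f Vk).comp (mk' V) = f := rfl
  have := ih _ (hn ▸ L.card_quotient_lt V hV.2.1) (X ⧸ V) _ _ (QuotientGroup.lift V f Vk) rfl
    (h.mapq hF hp el (Vk.trans hk)) (lift_surjective_of_surjective V f hf Vk)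
    (by rw [ker_lift]; exact map_mono hk)
  rwa [quo1 quo h el (Vk.trans hk), Subgroup.map_map, Subgroup.map_map, ← MonoidHom.comp_assoc, e] at this

theorem core_le (hF : Group.IsNilpotent F) (quo : Quo.{u} F H m) (ker : Ker.{u} F H m) {q : ℕ}
    (hq : q.Prime) (n : ℕ) : ∀ (X : Type u) [Group X] [Finite X] (G : Subgroup X) (i : A →* X),
    Nat.card X = n → Cl F m G i → ∀ D : Subgroup X, IsPGroup q D → D ⊲ G ⊓ 𝐂(H.map i) →
    D ≤ pCoreOf q G := by
  induction n using Nat.strong_induction_on with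
  | _ n ih =>
  intro X _ _ G i hn h D hD nD
  haveI := h.nrm
  haveI := Fact.mk hq
  have nO : ∀ {Y : Type u} [Group Y] [Finite Y] (K : Subgroup Y) [K.Normal], (pCoreOf q K).Normal :=
    fun K _ => normal_iff_top_le.2
      (le_normalizer_of_normal.trans (H2.normalizer_le_normalizer_pCoreOf q K))
  by_cases g0 : G = ⊥
  · exact nD.1.trans (inf_le_left.trans (g0.le.trans bot_le))
  obtain ⟨V, p, hV, VG, hp, el, hO⟩ : ∃ (V : Subgroup X) (p : ℕ), L.IsMinNormal V ∧ V ≤ G ∧
      p.Prime ∧ IsElementaryAbelian p V ∧ (IsPGroup q V ∨ pCoreOf q G = ⊥) := by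
    by_cases e : pCoreOf q G = ⊥
    · haveI := h.sol
      obtain ⟨V, p, a, b, c, d⟩ := L.exists_isMinNormal_isElementaryAbelian_le G g0
      exact ⟨V, p, a, b, c, d, Or.inr e⟩
    · haveI := nO G
      haveI := H1.isSolvable_of_le (pCoreOf_normal q G).1 h.sol
      obtain ⟨V, p, a, b, c, d⟩ := L.exists_isMinNormal_isElementaryAbelian_le _ e
      exact ⟨V, p, a, b.trans (pCoreOf_normal q G).1, c, d,
        Or.inl ((H2.isPGroup_pCoreOf q G).to_le b)⟩
  haveI := hV.1
  have h' := h.mapq hF hp el VG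
  haveI := h'.nrm
  haveI := nO (G.map (mk' V))
  have le := map_le_iff_le_comap.1 (ih _ (hn ▸ L.card_quotient_lt V hV.2.1) (X ⧸ V) _ _ rfl h'
    (D.map (mk' V)) (hD.map _) (quo1 quo h el VG ▸
      ⟨map_mono nD.1, (map_mono nD.2).trans (le_normalizer_map _)⟩))
  obtain ⟨N, hN⟩ : ∃ N, N = (pCoreOf q (G.map (mk' V))).comap (mk' V) := ⟨_, rfl⟩
  haveI : N.Normal := hN ▸ inferInstance
  have NG : N ≤ G := hN ▸ (comap_mono (pCoreOf_normal q _).1).trans
    (comap_map_eq_self ((ker_mk' V).symm ▸ VG)).le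
  have pN : IsPGroup q (N.map (mk' V)) :=
    (H2.isPGroup_pCoreOf q _).to_le (hN ▸ map_comap_le _ _)
  rw [← hN] at le
  by_cases pV : IsPGroup q V
  · exact le.trans (le_pCoreOf ⟨NG, le_normalizer_of_normal⟩ (hN ▸
      (H2.isPGroup_pCoreOf q _).comap_of_ker_isPGroup _ ((ker_mk' V).symm ▸ pV)))
  have pq : p ≠ q := fun e => pV (e ▸ L.IsElementaryAbelian.isPGroup el)
  have O := hO.resolve_left pV
  have d : V ⊓ D = ⊥ := H1.inf_eq_bot_of_coprime'
    (coprime_card_of_isPGroup hp hq pq (L.IsElementaryAbelian.isPGroup el) hD)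
  have c : N ⊓ 𝐂(V) ≤ V := by
    obtain ⟨S, hS⟩ := exists_isSyl hq (N ⊓ 𝐂(V))
    have e := congrArg (comap (mk' V)) (H9.map_eq_of_sylow (mk' V) hS.le hS.ndvd
      (pN.to_le (map_mono inf_le_left)))
    rw [comap_map_eq, comap_map_eq, ker_mk'] at e
    have s : S ≤ pCoreOf q G := ((H2.SnIn.of_normal hS.le (le_sup_left.trans (e.ge.trans (sup_le
      (le_norm_self S) ((cent_comm.1 (hS.le.trans inf_le_right)).trans (cent_le_norm S)))))).trans
      (H2.SnIn.of_normal (inf_le_left.trans NG) le_normalizer_of_normal)).le_pCoreOf hS.pgrp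
    exact le_sup_left.trans (e.ge.trans (sup_le (s.trans (O.le.trans bot_le)) le_rfl))
  refine (le_inf (fun x hx => ker X N V i p q (h.mono NG) ((ker_mk' V).ge.trans
    (hN ▸ ker_le_comap _ _)) hV.2.1 hp hq pq el pN c x ⟨le hx, (nD.1 hx).2⟩ ?_) le_rfl).trans
    (d.le.trans bot_le)
  exact mem_cent_iff_cent1.1 (le_cent_of_norm_of_disj (norm_inf le_normalizer_of_normal
    ((nD.1.trans inf_le_right).trans (le_norm_self _))) ((inf_le_inf_right _ VG).trans nD.2)
    (eq_bot_iff.2 (d ▸ inf_le_inf_right _ inf_le_left)) hx)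

theorem fit_le (hF : Group.IsNilpotent F) (quo : Quo.{u} F H m) (ker : Ker.{u} F H m)
    (h : Cl F m G i) : fittingOf (G ⊓ 𝐂(H.map i)) ≤ fittingOf G := by
  rw [H2.fittingOf_eq_iSup_pCoreOf]
  exact iSup_le fun q => (core_le hF quo ker q.2 _ X G i rfl h _ (H2.isPGroup_pCoreOf _ _)
    (pCoreOf_normal _ _)).trans (H2.pCoreOf_le_fittingOf q.2 G)

theorem height (hF : Group.IsNilpotent F) (quo : Quo.{u} F H m) (ker : Ker.{u} F H m)
    (base : Base.{u} F H m) (n : ℕ) : ∀ (X : Type u) [Group X] [Finite X] (G : Subgroup X)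
    (i : A →* X), Cl F m G i → L.FitLE n (G ⊓ 𝐂(H.map i) : Subgroup X) → L.FitLE n G := by
  induction n with
  | zero =>
    intro X _ _ G i h e
    rw [L.fitLE_zero_iff, ← not_nontrivial_iff_subsingleton, nontrivial_iff_ne_bot, not_not] at e ⊢
    by_contra g0
    haveI := h.nrm
    haveI := h.sol
    obtain ⟨V, p, a, b, c, d⟩ := L.exists_isMinNormal_isElementaryAbelian_le G g0
    haveI := a.1
    exact a.2.1 (base X V i p (h.mono b) c d (eq_bot_iff.2 (e ▸ inf_le_inf_right _ b)))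
  | succ n ih =>
    intro X _ _ G i h e
    haveI := h.nrm
    haveI : (fittingOf G).Normal := normal_iff_top_le.2
      (le_normalizer_of_normal.trans (H2.normalizer_le_normalizer_fittingOf G))
    obtain ⟨h1, h2⟩ := quoN hF quo _ X G i (mk' (fittingOf G)) rfl h (mk'_surjective _)
      ((ker_mk' (fittingOf G)).le.trans (H2.fittingOf_le G))
    have := ih _ _ _ h1 (h2 ▸ (L.fitLE_succ_iff.1 e).of_surjective (lift_surjective_of_surjective
      (fittingSubgroup _) _ ((mk' (fittingOf G)).subgroupMap_surjective _) fun x hx => Subtype.ext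
        ((eq_one_iff (N := fittingOf G) _).2 (fit_le hF quo ker h ⟨x, hx, rfl⟩))))
    exact L.FitLE.succ_of_quotient ((mk' (fittingOf G)).subgroupMap G).ker
      (L.isNilpotent_of_le (B := fittingSubgroup G) fun x hx => (mem_map_iff_mem G.subtype_injective).1
        ((eq_one_iff (N := fittingOf G) _).1 (congrArg Subtype.val hx))) (this.of_injective (kerLift_injective _))

end Cfsg.Agent.P25
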