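/-
P25: weight arguments for Frobenius-like groups of operators.
-/
import Cfsg.Agent.P25.Sup
import Cfsg.Agent.H9.Tur8
import Cfsg.Agent.H1.RepFree
import Cfsg.Agent.P11.Alg

set_option autoImplicit false
set_option linter.unusedSectionVars false
set_option linter.style.haveILetI false

namespace Cfsg.Agent.P25

open Subgroup Cfsg Cfsg.Agent Cfsg.Agent.FT Cfsg.Agent.H9 Module
open scoped commutatorElement

universe u

variable {X : Type u} [Group X] [Finite X]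

theorem sol_zp (x : X) : Group.IsSolvable (zpowers x) := inferInstance

theorem mem_of_conj {S F : Subgroup X} {h f : X} (hn : h ∈ 𝐍(F))
    (hc : 𝐨(zpowers h).Coprime 𝐨(F)) (hC : F ⊓ 𝐂[h] ≤ S) (hS : h ∈ S) (hf : f ∈ F)
    (hfS : f⁻¹ * h * f ∈ S) : f ∈ S := by
  have le : zpowers h ≤ S ^ᵍ f := zpowers_le.2 (mem_conj.2 hfS)
  obtain ⟨n, hn1, e⟩ := H1.exists_mul_mem_centralizer' (A := zpowers h) (N := F ⊓ S)
    (norm_inf (zpowers_le.2 hn) ((zpowers_le.2 hS).trans (le_norm_self S)))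
    (hc.coprime_dvd_right (FT.card_dvd_of_le inf_le_left)) (Or.inl (sol_zp h)) (g := f) fun a ha =>
    mem_inf.2 ⟨mul_mem (inv_mem hf) (cn (zpowers_le.2 hn ha) hf), by
      have := mul_mem (mem_conj.1 (le ha)) (inv_mem (zpowers_le.2 hS ha))
      simpa only [mul_assoc] using this⟩
  exact (mul_mem_cancel_right (mem_inf.1 hn1).2).1
    (hC ⟨mul_mem hf (mem_inf.1 hn1).1, cent_zpowers h ▸ e⟩)

theorem mem_of_conj' {S F H : Subgroup X} (sr : SemiReg F H) (HF : H ≤ 𝐍(F))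
    (sol : Group.IsSolvable F) (ne : H ⊓ S ≠ ⊥) {f : X} (hf : f ∈ F) (ne' : H ⊓ S ^ᵍ f ≠ ⊥) :
    f ∈ S := by
  have cp := (sr.coprime HF).symm
  have R := fun h (hh : h ∈ H) (h1 : h ≠ 1) (hS : h ∈ S) g (hg : g ∈ F) => mem_of_conj (HF hh)
    (cp.coprime_dvd_left (FT.card_dvd_of_le (zpowers_le.2 hh))) ((sr h hh h1).le.trans bot_le) hS hg
  obtain ⟨⟨h, h1, h2⟩, h3⟩ := ne_bot_iff_exists_ne_one.1 ne
  obtain ⟨⟨x, x1, x2⟩, x3⟩ := ne_bot_iff_exists_ne_one.1 ne'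
  obtain ⟨g, hg, e⟩ := H1.glauberman_exists_fixed (A := H ⊓ (F ⊔ S ⊓ 𝐍(F))) (inf_le_left.trans HF)
    (cp.coprime_dvd_left (FT.card_dvd_of_le inf_le_left)) (Or.inr sol) ((1 : X) : X ⧸ S) fun a ha => by
      obtain ⟨g, hg, s, hs, rfl⟩ := (mem_sup_of_norm inf_le_right).1 ha.2
      exact ⟨g, hg, (QuotientGroup.eq.2 (by simpa using hs.1)).symm⟩
  have e' : ∀ a ∈ H ⊓ (F ⊔ S ⊓ 𝐍(F)), g⁻¹ * a * g ∈ S := fun a ha => by
    simpa [mul_assoc] using QuotientGroup.eq.1 (e a ha).symm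
  have gS := R h h1 (fun e => h3 (Subtype.ext e)) h2 g hg (e' h ⟨h1, mem_sup_right ⟨h2, HF h1⟩⟩)
  have x4 := mem_conj.1 x2
  have x5 : x ∈ F ⊔ S ⊓ 𝐍(F) := by
    have := mul_mem (mul_mem (mem_sup_left hf) (mem_sup_right (S := F) (T := S ⊓ 𝐍(F)) (mem_inf.2 ⟨x4, mul_mem
      (mul_mem (inv_mem (le_norm_self F hf)) (HF x1)) (le_norm_self F hf)⟩))) (inv_mem (mem_sup_left hf))
    simpa [mul_assoc] using this
  refine R x x1 (fun e => x3 (Subtype.ext e)) ?_ f hf x4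
  simpa [mul_assoc] using mul_mem (mul_mem gS (e' x ⟨x1, x5⟩)) (inv_mem gS)

theorem ncl_le {F K : Subgroup X} {c : X} (h : ∀ f ∈ F, f⁻¹ * c * f ∈ K) :
    H2.nclIn F (zpowers c) ≤ K :=
  H2.nclIn_le_iff.2 fun f hf => show zpowers c ^ᵍ f ≤ K by
    rw [← zpowers_conj, zpowers_le]; simpa using h _ (inv_mem hf)

theorem mem_ncl (F : Subgroup X) (c : X) : c ∈ H2.nclIn F (zpowers c) :=
  H2.le_nclIn _ _ (mem_zpowers c)

theorem norm_ncl {F : Subgroup X} {c h : X} (h1 : h ∈ 𝐍(F)) (h2 : h ∈ 𝐂[c]) :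
    h ∈ 𝐍(H2.nclIn F (zpowers c)) := by
  rw [H2.mem_normalizer_iff_conj_smul, H2.conj_smul_nclIn, H2.mem_normalizer_iff_conj_smul.1 h1,
    H2.mem_normalizer_iff_conj_smul.1 (cent_le_norm _ (cent_zpowers c ▸ h2))]

variable {k V : Type*} [Field k] [AddCommGroup V] [Module k V] {ρ : X →* End k V}

theorem mem_fixer_of_sum {Z B : Subgroup X} {μ : X → k} (hB : B ≤ 𝐍(Z))
    (h : B ⊓ wstab Z μ = ⊥) {y : X} (hy : y ∈ wstab Z μ) (hyB : y ∈ 𝐂(B))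
    (hfix : ∀ v, ρ y (sumRep ρ B v) = sumRep ρ B v) : y ∈ fixer ρ (wsp ρ Z μ) := by
  classical
  intro v hv
  let _ := Fintype.ofFinite B
  have h1 := hfix v
  rw [sumRep_eq, LinearMap.sum_apply, map_sum, ← sub_eq_zero, ← Finset.sum_sub_distrib,
    Finset.sum_congr rfl (g := fun b : B => ρ b (ρ y v - v)) fun b _ => by
      rw [map_sub, ← rep_mul_apply, ← rep_mul_apply, mem_centralizer_iff.mp hyB b b.2]] at h1
  have h2 := sum_filter_eq_zero Finset.univ (fun b : B => (b : X)) (fun _ => ρ y v - v)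
    (fun b _ => hB b.2) (fun _ _ => Submodule.sub_mem _ (apply_mem_wsp hy hv) hv) h1
  rw [Finset.sum_eq_single (1 : B)] at h2
  · simpa [sub_eq_zero] using h2
  · intro b hb hb1
    have : (b : X) ∈ B ⊓ wstab Z μ := mem_inf.mpr ⟨b.2, (Finset.mem_filter.mp hb).2⟩
    rw [h, mem_bot] at this
    exact absurd (Subtype.ext this) hb1
  · intro h3
    exact (h3 (Finset.mem_filter.mpr ⟨Finset.mem_univ _, (wstab Z μ).one_mem⟩)).elim

/-- The elements acting as scalars on `W`. -/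
def scal (ρ : X →* End k V) (W : Submodule k V) : Subgroup X where
  carrier := {x | ∃ a : kˣ, ∀ w ∈ W, ρ x w = (a : k) • w}
  one_mem' := ⟨1, fun w _ => by simp⟩
  mul_mem' := fun ⟨a, ha⟩ ⟨b, hb⟩ => ⟨b * a, fun w hw => by
    rw [rep_mul_apply, hb w hw, map_smul, ha w hw, smul_smul, Units.val_mul]⟩
  inv_mem' := fun {x} ⟨a, ha⟩ => ⟨a⁻¹, fun w hw => rep_injective ρ x (by
    rw [rep_apply_inv, map_smul, ha w hw, smul_smul, Units.inv_mul, one_smul])⟩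

theorem norm_arg {W : Submodule k V} {F B S : Subgroup X} (hF : F ≤ 𝐍(B)) (hB : B ≤ scal ρ W)
    (hC : B ⊓ 𝐂(F) = ⊥) (cop : 𝐨(F).Coprime 𝐨(B)) (sol : Group.IsSolvable B)
    (hS : ∀ f ∈ S, ∀ w ∈ W, ρ f w ∈ W) {t : X} (ht : t ∈ B)
    (h : ∀ f ∈ F, f ∉ S → f⁻¹ * t * f ∈ fixer ρ W) : t ∈ fixer ρ W := by
  classical
  by_cases h0 : W = ⊥
  · intro v hv
    rw [h0, Submodule.mem_bot] at hv
    rw [hv, map_zero]
  obtain ⟨v, hv, hv0⟩ := Submodule.exists_mem_ne_zero_of_ne_bot h0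
  have inj : ∀ a b : kˣ, (a : k) • v = (b : k) • v → a = b := fun a b h =>
    Units.ext (smul_left_injective k hv0 h)
  choose s hs using fun b : B => hB b.2
  let ν : B →* kˣ := MonoidHom.mk' s fun a b => inj _ _ (by
    rw [← hs _ v hv, coe_mul, rep_mul_apply, hs _ v hv, map_smul, hs _ v hv, smul_smul, mul_comm,
      Units.val_mul])
  let _ := Fintype.ofFinite F
  let l : B →* kˣ := ∏ f : F, ν.comp (H1.conjAut hF f).toMonoidHom
  have hl : ∀ b, l b = ∏ f : F, ν (H1.conjAut hF f b) := fun b => MonoidHom.finsetProd_apply ..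
  have le : ⁅B, F⁆ ≤ l.ker.map B.subtype := commutator_le.2 fun b hb g hg =>
    ⟨⟨b, hb⟩ * (H1.conjAut hF ⟨g, hg⟩ ⟨b, hb⟩)⁻¹, by
      rw [SetLike.mem_coe, MonoidHom.mem_ker, map_mul, map_inv, mul_inv_eq_one, hl, hl]
      exact (Fintype.prod_equiv (Equiv.mulRight (⟨g, hg⟩ : F)) _ _ fun f => by simp).symm, by
      simp [H1.coe_conjAut, commutatorElement_def, mul_assoc]⟩
  have e := H1.commutator_sup_centralizer hF cop (Or.inr sol)
  rw [hC, sup_bot_eq] at e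
  have h2 := (mem_map_iff_mem B.subtype_injective (x := ⟨t, ht⟩)).1 (le (e.ge ht))
  rw [MonoidHom.mem_ker, hl,
    ← Finset.prod_filter_mul_prod_filter_not Finset.univ fun a : F => (a : X) ∈ S,
    Finset.prod_congr rfl (g := fun _ => ν ⟨t, ht⟩) fun a ha => inj _ _ (by
      have m := (Finset.mem_filter.mp ha).2
      refine (hs _ v hv).symm.trans ?_
      rw [H1.coe_conjAut, rep_mul_apply, rep_mul_apply, hs ⟨t, ht⟩ _ (hS _ (inv_mem m) v hv),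
        map_smul, rep_apply_inv]; rfl),
    Finset.prod_eq_one (s := Finset.univ.filter fun a : F => ¬ (a : X) ∈ S) fun a ha => inj _ _ (by
      have h3 := h _ (inv_mem a.2) (fun h => (Finset.mem_filter.mp ha).2 (inv_mem_iff.mp h)) v hv
      rw [inv_inv] at h3
      exact (hs _ v hv).symm.trans (h3.trans (one_smul k v).symm)),
    mul_one, Finset.prod_const] at h2
  have h4 : (Finset.univ.filter fun b : F => (b : X) ∈ S).card = 𝐨(S.subgroupOf F) := by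
    rw [Nat.card_eq_fintype_card, Fintype.card_subtype]; rfl
  have h5 : ν ⟨t, ht⟩ ^ 𝐨(B) = 1 := by rw [← map_pow, pow_card_eq_one', map_one]
  have h6 := pow_gcd_eq_one.mpr ⟨h2, h5⟩
  rw [h4, (cop.coprime_dvd_left (card_subgroup_dvd_card _)).gcd_eq_one, pow_one] at h6
  intro w hw
  rw [hs ⟨t, ht⟩ w hw, show s ⟨t, ht⟩ = 1 from h6, Units.val_one, one_smul]

variable [IsAlgClosed k] [FiniteDimensional k V]

theorem k1 {F H Q : Subgroup X} {q : ℕ} (hq : q.Prime) (hqk : (q : k) ≠ 0) (sr : SemiReg F H)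
    (HF : H ≤ 𝐍(F)) (sol : Group.IsSolvable F) (cop : 𝐨(F).Coprime q) (hQ : IsPGroup q Q)
    (FQ : F ≤ 𝐍(Q)) (fpf : Q ⊓ 𝐂(F) = ⊥) (fai : Q ⊓ ρ.ker = ⊥) {c : X} (hc : c ∈ Q)
    (cH : c ∈ 𝐂(H)) (hfix : ∀ v, ρ c (sumRep ρ H v) = sumRep ρ H v) : c = 1 := by
  by_contra c1
  haveI := Fact.mk hq
  obtain ⟨P, hP⟩ : ∃ P, P = H2.nclIn F (zpowers c) := ⟨_, rfl⟩
  have cP : c ∈ P := hP ▸ mem_ncl F c
  have PQ : P ≤ Q := hP ▸ ncl_le fun f hf => cn' (FQ hf) hc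
  have FP : F ≤ 𝐍(P) := hP ▸ H2.le_normalizer_nclIn _ _
  have FY : F ≤ 𝐍(𝐙(P)) := FP.trans (norm_le_norm_center P)
  have HY : H ≤ 𝐍(𝐙(P)) := fun h hh => norm_le_norm_center P
    (hP ▸ norm_ncl (HF hh) (mem_cent_iff_cent1.1 cH hh))
  have pP := hQ.to_le PQ
  have PS : ∀ μ : X → k, P ≤ wstab 𝐙(P) μ := fun μ =>
    (cent_comm.1 inf_le_right).trans centralizer_le_wstab
  obtain ⟨μ, c2, Y2⟩ : ∃ μ : X → k, c ∉ fixer ρ (wsp ρ 𝐙(P) μ) ∧ ¬ 𝐙(P) ≤ fixer ρ (wsp ρ 𝐙(P) μ) := by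
    by_contra! e
    obtain ⟨μ, hμ⟩ := exists_wsp (ρ := ρ) (isMulComm_center P) le_rfl
      (H1.cast_card_ne_zero_of_isPGroup hq (pP.to_le inf_le_left) hqk) fun e =>
      center_ne_bot (isNilpotent_of_isPGroup hq pP) (fun e => c1 (mem_bot.1 (e ▸ cP)))
        (eq_bot_iff.2 (fai ▸ le_inf (inf_le_left.trans PQ) e))
    refine hμ (inf_le_left.trans (hP.le.trans (ncl_le fun f hf => mem_fixer_conj (FY hf) ?_)))
    by_contra n
    exact hμ fun y hy => by simpa [mul_assoc] using mem_fixer_conj (FY hf) (e _ n (cn (FY hf) hy))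
  obtain ⟨N, hN⟩ : ∃ N, N = fixer ρ (wsp ρ 𝐙(P) μ) := ⟨_, rfl⟩
  have PN : P ≤ 𝐍(N) := hN ▸ (PS μ).trans wstab_le_normalizer_fixer
  have out : ∀ f ∈ F, f ∉ wstab 𝐙(P) μ → f⁻¹ * c * f ∈ N := fun f hf n =>
    hN ▸ mem_fixer_conj (FY hf) (mem_fixer_of_sum HY (by_contra fun e => n (mem_of_conj' sr HF sol
      (fun e => c2 (mem_fixer_of_sum HY e (PS μ cP) cH hfix)) hf fun e' => e (eq_bot_iff.2
        (e' ▸ inf_le_inf_left _ fun x hx => mem_conj.2 ((mem_wstab_conj (FY hf)).1 hx)))))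
      (PS _ cP) cH hfix)
  obtain ⟨T, hT⟩ : ∃ T : Subgroup X, ∀ x, x ∈ T ↔
      x ∈ P ∧ ∀ f ∈ F, f ∉ wstab 𝐙(P) μ → f⁻¹ * x * f ∈ N :=
    ⟨P ⊓ ⨅ f ∈ F, ⨅ _ : f ∉ wstab 𝐙(P) μ, N ^ᵍ f, fun x => by simp only [mem_inf, mem_iInf, mem_conj]⟩
  have le : P ≤ N ⊔ T := hP.le.trans (ncl_le fun f hf => by
    by_cases m : f ∈ wstab 𝐙(P) μ
    · refine mem_sup_right ((hT _).2 ⟨cn' (FP hf) cP, fun g hg n => ?_⟩)
      simpa [mul_assoc] using out _ (mul_mem hf hg) fun e => n ((mul_mem_cancel_left m).1 e)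
    · exact mem_sup_left (out f hf m))
  refine Y2 fun y hy => ?_
  obtain ⟨t, ht, n, hn, rfl⟩ := (mem_sup_of_norm' fun x hx => PN ((hT x).1 hx).1).1 (le hy.1)
  rw [hT] at ht
  refine mul_mem ?_ (hN ▸ hn)
  obtain ⟨B, hB⟩ : ∃ B : Subgroup X, ∀ x, x ∈ B ↔
      x ∈ P ∧ ∀ f ∈ F, f⁻¹ * x * f ∈ scal ρ (wsp ρ 𝐙(P) μ) :=
    ⟨P ⊓ ⨅ f ∈ F, scal ρ (wsp ρ 𝐙(P) μ) ^ᵍ f, fun x => by simp only [mem_inf, mem_iInf, mem_conj]⟩
  have BP : B ≤ P := fun x hx => ((hB x).1 hx).1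
  have NS : N ≤ scal ρ (wsp ρ 𝐙(P) μ) := fun x hx => ⟨1, fun w hw => by simpa using (hN ▸ hx) w hw⟩
  have YS : 𝐙(P) ≤ scal ρ (wsp ρ 𝐙(P) μ) := fun x hx => by
    obtain ⟨v, hv, v0⟩ := Submodule.exists_mem_ne_zero_of_ne_bot (wsp_ne_bot_of_not_le Y2)
    exact ⟨Units.mk0 (μ x) fun e => v0 (rep_eq_zero ρ x (by rw [hv x hx, e, zero_smul])),
      fun w hw => hw x hx⟩
  refine norm_arg (B := B) (S := wstab 𝐙(P) μ) (le_normalizer_iff.2 fun g hg x hx => (hB _).2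
    ⟨cn (FP hg) (BP hx), fun f hf => ?_⟩) (fun x hx => by simpa using ((hB x).1 hx).2 1 (one_mem _))
    (eq_bot_iff.2 (fpf ▸ inf_le_inf_right _ (BP.trans PQ)))
    (H1.coprime_card_of_isPGroup (pP.to_le BP) cop) (H1.isSolvable_of_isPGroup (pP.to_le BP))
    (fun f hf w hw => apply_mem_wsp hf hw) ((hB t).2 ⟨ht.1, fun f hf => ?_⟩) (hN ▸ ht.2)
  · simpa [mul_assoc] using ((hB x).1 hx).2 _ (mul_mem (inv_mem hg) hf)
  · by_cases m : f ∈ wstab 𝐙(P) μ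
    · convert mul_mem (YS (cn' (FY hf) hy))
        (NS (inv_mem (cn' (hN ▸ wstab_le_normalizer_fixer m) hn))) using 1
      group
    · exact NS (ht.2 f hf m)

end Cfsg.Agent.P25
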