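/-
P25: the weight argument for a group of prime order on top of a coprime group of operators.
-/
import Cfsg.Agent.P25.Ker

set_option autoImplicit false
set_option linter.unusedSectionVars false
set_option linter.style.haveILetI false

namespace Cfsg.Agent.P25

open Subgroup Cfsg Cfsg.Agent Cfsg.Agent.FT Cfsg.Agent.H9 Module
open scoped commutatorElement

universe u

variable {X : Type u} [Group X] [Finite X]
variable {k V : Type*} [Field k] [AddCommGroup V] [Module k V] {ρ : X →* End k V}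

/-- A representation as an action on the multiplicative group. -/
def toAut (ρ : X →* End k V) : X →* MulAut (Multiplicative V) :=
  MonoidHom.mk' (fun x => AddEquiv.toMultiplicative
    ⟨⟨ρ x, ρ x⁻¹, rep_inv_apply ρ x, rep_apply_inv ρ x⟩, map_add (ρ x)⟩)
    fun x y => MulEquiv.ext fun v => rep_mul_apply ρ x y v.toAdd

theorem sum_ne_zero {F H : Subgroup X} (sr : SemiReg F H) (HF : H ≤ 𝐍(F)) {W : Submodule k V}
    (hF : ∀ b ∈ F, ∀ w ∈ W, ρ b w ∈ W) (hH : ∀ b ∈ H, ∀ w ∈ W, ρ b w ∈ W)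
    (h1 : ∀ w ∈ W, (∀ b ∈ F, ρ b w = w) → w = 0) (hk : (𝐨(F) : k) ≠ 0)
    (h0 : ∀ w ∈ W, sumRep ρ H w = 0) : W = ⊥ := eq_bot_iff.2 fun w hw => by
  letI := Fintype.ofFinite F
  letI := Fintype.ofFinite H
  have := P11.prod_conj_nm (toAut ρ) ⟨fun h hh f hf => cn (HF hh) hf, semiReg_iff.1 sr⟩
    (W := AddSubgroup.toSubgroup W.toAddSubgroup) hF hH h1 (w := Multiplicative.ofAdd w) hw
  rw [Finset.prod_eq_one fun f _ => by
    have e : P11.nm (toAut ρ) H (toAut ρ (f : X)⁻¹ (Multiplicative.ofAdd w)) = 1 := by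
      have := h0 _ (hF _ (inv_mem f.2) w hw)
      rw [sumRep_eq, LinearMap.sum_apply] at this
      rw [P11.nm_eq]
      exact this
    rw [e, map_one]] at this
  have e : (𝐨(F) : k) • w = 0 := by rw [Nat.cast_smul_eq_nsmul]; exact this.symm
  exact (smul_eq_zero.1 e).resolve_left hk

variable [IsAlgClosed k] [FiniteDimensional k V]

theorem ker_of_fixer {Z : Subgroup X} (hZ : IsMulCommutative Z) (hk : (𝐨(Z) : k) ≠ 0) {x : X}
    (h : ∀ μ : X → k, wsp ρ Z μ ≠ ⊥ → x ∈ fixer ρ (wsp ρ Z μ)) : x ∈ ρ.ker := by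
  classical
  have e := H1.iSup_wtSp ρ Z (fun a ha b hb => Commute.map
    (mem_cent.1 (isMulComm_iff_le_cent.1 hZ hb) a ha) ρ) hk
  have : ⊤ ≤ LinearMap.eqLocus (ρ x) 1 := e ▸ iSup_le fun μ v hv => by
    have m : v ∈ wsp ρ Z fun y => if hy : y ∈ Z then μ ⟨y, hy⟩ else 0 := fun z hz => by
      simp only [dif_pos hz]; exact H1.mem_wtSp.1 hv ⟨z, hz⟩
    by_cases v0 : v = 0
    · exact v0 ▸ zero_mem _
    exact h _ (fun e => v0 ((Submodule.mem_bot k).1 (e ▸ m))) v m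
  exact LinearMap.ext fun v => this (Submodule.mem_top (x := v))

theorem k2' {F Q : Subgroup X} {σ : X} {q r : ℕ} (hq : q.Prime) (hr : r.Prime)
    (hqk : (q : k) ≠ 0) (σ1 : σ ^ r = 1) (σF : σ ∈ 𝐍(F)) (σQ : σ ∈ 𝐍(Q)) (FQ : F ≤ 𝐍(Q))
    (hQ : IsPGroup q Q) (rq : r.Coprime q) (Fq : 𝐨(F).Coprime q) (Fr : r.Coprime 𝐨(F))
    (Fk : (𝐨(F) : k) ≠ 0) (hC : ∀ L ≤ F ⊓ 𝐂[σ], L ≠ ⊥ → F ⊓ 𝐂[σ] ≤ L) (fpf : Q ⊓ 𝐂(F) = ⊥)
    (fV : ∀ v, (∀ f ∈ F, ρ f v = v) → v = 0) (fai : Q ⊓ ρ.ker = ⊥) {c : X} (hc : c ∈ Q)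
    (cσ : c ∈ 𝐂[σ]) (cZ : c ∈ 𝐂((Q ⊓ 𝐂[σ] : Subgroup X))) (hfix : ∀ v, ρ σ v = v → ρ c v = v) :
    c = 1 := by
  haveI := Fact.mk hq
  have sum : ∀ v, ρ c (sumRep ρ (zpowers σ) v) = sumRep ρ (zpowers σ) v := fun v =>
    hfix _ (rep_sumRep_apply ρ _ (mem_zpowers σ) v)
  have cσ' : c ∈ 𝐂(zpowers σ) := cent_zpowers σ ▸ cσ
  have pk : ∀ A ≤ Q, (𝐨(A) : k) ≠ 0 := fun A h =>
    H1.cast_card_ne_zero_of_isPGroup hq (hQ.to_le h) hqk
  have dec : ∀ A ≤ Q, σ ∈ 𝐍(A) → ∀ N : Subgroup X, c ∈ 𝐍(N) → ⁅⁅A, zpowers σ⁆, zpowers c⁆ ≤ N →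
      A ≤ 𝐍(N) → ⁅A, zpowers c⁆ ≤ N := fun A h hn N cN h1 h2 => by
    refine H1.commutator_zpowers_le cN fun a ha => ?_
    obtain ⟨x, hx, y, hy, rfl⟩ := H1.exists_commutator_mul_centralizer (zpowers_le.2 hn)
      (coprime_card_zpowers σ1 (H1.coprime_card_of_isPGroup (hQ.to_le h) rq)) (Or.inl (sol_zp σ)) ha
    have e := mem_cent.1 cZ y ⟨h hy.1, cent_zpowers σ ▸ hy.2⟩
    convert h1 (commutator_mem_commutator hx (mem_zpowers c)) using 1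
    simp only [commutatorElement_def, mul_inv_rev]
    rw [mul_assoc x y c, e]; group
  have bot : ∀ A ≤ Q, IsMulCommutative A → ∀ K ≤ Q,
      (∀ μ : X → k, wsp ρ A μ ≠ ⊥ → K ≤ fixer ρ (wsp ρ A μ)) → K = ⊥ := fun A h hA K hK e =>
    eq_bot_iff.2 (fai ▸ le_inf hK fun x hx => ker_of_fixer hA (pk A h) fun μ n => e μ n hx)
  have s1 : ∀ A ≤ Q, IsMulCommutative A → σ ∈ 𝐍(A) → c ∈ 𝐍(A) → c ∈ 𝐂(A) := fun A h hA h1 h2 => by
    have n := comm_le_left_iff.2 (zpowers_le.2 h2)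
    have n1 := comm_le_left_iff.2 (zpowers_le.2 h1)
    rw [← zpowers_le, cent_comm, ← comm_eq_bot_iff]
    refine eq_bot_iff.2 (dec A h h1 ⊥ (norm_bot.ge (mem_top _)) (bot A h hA _
      (((commutator_mono n1 le_rfl).trans n).trans h) fun μ h0 => ?_).le (le_top.trans norm_bot.ge))
    by_cases m : σ ∈ wstab A μ
    · refine (comm_le_left_iff.2 ?_).trans
        ((commutator_mono le_rfl (zpowers_le.2 m)).trans (commutator_le_fixer hA))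
      exact H1.le_normalizer_commutator (zpowers_le.2 h2) (cent_comm.1 (zpowers_le.2
        (cent_zpowers c ▸ mem_cent1_comm.1 cσ)) |>.trans (cent_le_norm _))
    · refine (commutator_mono n1 (zpowers_le.2 ?_)).trans (commutator_le_fixer hA)
      exact (mem_wstab_fixer_of_norm hr σ1 h1 m h2 (mem_cent1_iff_commute.1 cσ).symm
        ((H1.coprime_card_of_isPGroup hQ rq).symm.coprime_dvd_left (Q.orderOf_dvd_natCard hc)) h0
        fun v _ => sum v).1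
  obtain ⟨P, hP⟩ : ∃ P, P = H2.nclIn F (zpowers c) := ⟨_, rfl⟩
  have cP : c ∈ P := hP ▸ mem_ncl F c
  have PQ : P ≤ Q := hP ▸ ncl_le fun f hf => cn' (FQ hf) hc
  have FP : F ≤ 𝐍(P) := hP ▸ H2.le_normalizer_nclIn _ _
  have σP : σ ∈ 𝐍(P) := hP ▸ norm_ncl σF (mem_cent1_comm.1 cσ)
  have cl : ∀ L : Subgroup X, F ≤ 𝐍(L) → c ∈ 𝐂(L) → P ≤ 𝐂(L) := fun L h1 h2 =>
    hP ▸ ncl_le fun f hf => cn' (norm_cent h1 hf) h2
  have s2 : ⁅P, P⁆ ≤ 𝐂(P) := by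
    by_contra n
    obtain ⟨L, ⟨l1, l2, l3, l4, l5⟩, mn⟩ := exists_minimal_of_wellFoundedLT
      (fun L : Subgroup X => L ≤ ⁅P, P⁆ ∧ P ≤ 𝐍(L) ∧ F ≤ 𝐍(L) ∧ zpowers σ ≤ 𝐍(L) ∧ ¬ L ≤ 𝐂(P))
      ⟨_, le_rfl, (der_normal P).2, FP.trans (norm_le_norm_der P),
        (zpowers_le.2 σP).trans (norm_le_norm_der P), n⟩
    haveI := isNilpotent_of_isPGroup hq (hQ.to_le PQ)
    have lt := Agent.L.commutator_lt_of_isNilpotent (l1.trans (der_le P)) l2 fun e => l5 (e ▸ bot_le)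
    have e : ⁅⁅L, P⁆, P⁆ = ⊥ := comm_eq_bot_iff.2 (by_contra fun e => lt.not_ge (mn ⟨lt.le.trans l1,
      H1.le_normalizer_commutator_self, H1.le_normalizer_commutator l3 FP,
      H1.le_normalizer_commutator l4 (zpowers_le.2 σP), e⟩ lt.le))
    have e2 := commutator_commutator_eq_bot_of_rotate (H₁ := P) (H₂ := P) (H₃ := L)
      (by rwa [commutator_comm P L]) e
    exact l5 (cent_comm.1 (cl L l3 (s1 L (l1.trans ((der_le P).trans PQ))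
      (isMulComm_iff_le_cent.2 (l1.trans (comm_eq_bot_iff.1 e2))) (zpowers_le.1 l4) (l2 cP))))
  have PS : ∀ μ : X → k, P ≤ wstab 𝐙(P) μ := fun μ =>
    (cent_comm.1 inf_le_right).trans centralizer_le_wstab
  have σZ := norm_le_norm_center P σP
  have s3 : c ∈ 𝐂(P) := by
    have n : ⁅P, zpowers c⁆ ≤ ⁅P, P⁆ := commutator_mono le_rfl (zpowers_le.2 cP)
    rw [← zpowers_le, cent_comm, ← comm_eq_bot_iff]
    refine bot _ (inf_le_left.trans PQ) (isMulComm_center P) _ (n.trans ((der_le P).trans PQ))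
      fun μ h0 => ?_
    have PN := (PS μ).trans (wstab_le_normalizer_fixer (ρ := ρ))
    by_cases m : σ ∈ wstab 𝐙(P) μ
    · refine dec P PQ σP _ (PN cP) (three_mod PN ((zpowers_le.2 m).trans wstab_le_normalizer_fixer)
        (zpowers_le.2 (PN cP)) ((commutator_mono (comm_eq_bot_iff.2 (cent_comm.1
          (zpowers_le.2 cσ'))).le le_rfl).trans (by rw [commutator_bot_left]; exact bot_le)) ?_) PN
      rw [commutator_comm (zpowers c)]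
      exact (commutator_mono (n.trans (le_inf (der_le P) s2)) (zpowers_le.2 m)).trans
        (commutator_le_fixer (isMulComm_center P))
    · exact commutator_le_of_le_of_le_normalizer (zpowers_le.2 (mem_fixer_of_sum (zpowers_le.2 σZ)
        (zpowers_inf_eq_bot hr σ1 m) (PS μ cP) cσ' sum)) PN
  have ab : IsMulCommutative P := isMulComm_iff_le_cent.2 (cl P FP s3)
  refine mem_bot.1 (fai ▸ ⟨hc, ker_of_fixer ab (pk P PQ) fun μ h0 => by_contra fun c2 => ?_⟩)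
  have cS : ∀ μ : X → k, c ∈ wstab P μ := fun μ => centralizer_le_wstab s3
  have m : σ ∈ wstab P μ := by_contra fun m => c2 (mem_fixer_of_sum (zpowers_le.2 σP)
    (zpowers_inf_eq_bot hr σ1 m) (cS μ) cσ' sum)
  by_cases e : F ⊓ wstab P μ ⊓ 𝐂[σ] = ⊥
  · refine h0 (sum_ne_zero (F := F ⊓ wstab P μ) (H := zpowers σ) (fun x hx x1 => ?_)
      (norm_inf (zpowers_le.2 σF) ((zpowers_le.2 m).trans (le_norm_self _)))
      (fun b hb w hw => apply_mem_wsp hb.2 hw) (fun b hb w hw => apply_mem_wsp (zpowers_le.2 m hb) hw)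
      (fun w hw h => eq_zero_of_fix_inf_wstab FP Fk fV hw h) (fun h => Fk ?_) fun w hw => ?_)
    · refine eq_bot_iff.2 (e ▸ inf_le_inf_left _ fun y hy => mem_cent1_comm.1 (by_contra fun n => x1 ?_))
      exact mem_bot.1 (zpowers_inf_eq_bot hr σ1 n ▸ ⟨hx, mem_cent1_comm.1 hy⟩)
    · obtain ⟨a, ha⟩ := FT.card_dvd_of_le (inf_le_left : F ⊓ wstab P μ ≤ F)
      rw [ha, Nat.cast_mul, h, zero_mul]
    · by_contra w0
      have w1 : sumRep ρ (zpowers σ) w ∈ wsp ρ P μ := by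
        letI := Fintype.ofFinite (zpowers σ)
        rw [sumRep_eq, LinearMap.sum_apply]
        exact Submodule.sum_mem _ fun b _ => apply_mem_wsp (zpowers_le.2 m b.2) hw
      refine c2 fun v hv => ?_
      rw [hv c cP, smul_left_injective k w0 ((w1 c cP).symm.trans ((sum w).trans
        (one_smul k _).symm)), one_smul]
  have le := (hC _ (inf_le_inf_right _ inf_le_left) e).trans (inf_le_left.trans inf_le_right)
  refine c2 (mem_fixer_of_norm ab FP (eq_bot_iff.2 (fpf ▸ inf_le_inf_right _ PQ))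
    (H1.coprime_card_of_isPGroup (hQ.to_le PQ) Fq) cP fun f hf n => mem_fixer_conj (FP hf)
    (mem_fixer_of_sum (zpowers_le.2 σP) (zpowers_inf_eq_bot hr σ1 fun h => n ?_) (cS _) cσ' sum))
  exact mem_of_conj σF (coprime_card_zpowers σ1 Fr) le m hf ((mem_wstab_conj (FP hf)).1 h)

theorem k2 {F Q : Subgroup X} {σ : X} {q r : ℕ} (hq : q.Prime) (hr : r.Prime)
    (hqk : (q : k) ≠ 0) (σ1 : σ ^ r = 1) (σF : σ ∈ 𝐍(F)) (σQ : σ ∈ 𝐍(Q)) (FQ : F ≤ 𝐍(Q))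
    (hQ : IsPGroup q Q) (rq : r.Coprime q) (Fq : 𝐨(F).Coprime q) (Fr : r.Coprime 𝐨(F))
    (Fk : (𝐨(F) : k) ≠ 0) (hC : ∀ L ≤ F ⊓ 𝐂[σ], L ≠ ⊥ → F ⊓ 𝐂[σ] ≤ L) (fpf : Q ⊓ 𝐂(F) = ⊥)
    (fV : ∀ v, (∀ f ∈ F, ρ f v = v) → v = 0) (fai : Q ⊓ ρ.ker = ⊥) {c : X} (hc : c ∈ Q)
    (cσ : c ∈ 𝐂[σ]) (hfix : ∀ v, ρ σ v = v → ρ c v = v) : c = 1 := by
  by_contra c1
  obtain ⟨⟨d, ⟨⟨d1, d2⟩, d3⟩, d4⟩, d5⟩ := ne_bot_iff_exists_ne_one.1 (inf_center_ne_bot
    (N := Q ⊓ 𝐂[σ] ⊓ fixer ρ (LinearMap.eqLocus (ρ σ) 1))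
    (isNilpotent_of_isPGroup hq (hQ.to_le (inf_le_left : Q ⊓ 𝐂[σ] ≤ Q)))
    ⟨inf_le_left, norm_inf (le_norm_self _) (le_normalizer_fixer fun x hx v hv => show _ = _ by
      rw [← rep_mul_apply, mem_cent1.1 hx.2, rep_mul_apply, show ρ σ v = v from hv]; rfl)⟩
    fun e => c1 (mem_bot.1 (e ▸ ⟨⟨hc, cσ⟩, hfix⟩)))
  exact d5 (Subtype.ext (k2' hq hr hqk σ1 σF σQ FQ hQ rq Fq Fr Fk hC fpf fV fai d1 d2 d4 d3))

end Cfsg.Agent.P25
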