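/-
P25: the Frobenius case and the case of a group of prime order on top of an `s`-group.
-/
import Cfsg.Agent.P25.Ker2
import Cfsg.Agent.P25.Fit
import Cfsg.Agent.P24.Fr1

set_option autoImplicit false
set_option linter.unusedSectionVars false
set_option linter.style.haveILetI false

namespace Cfsg.Agent.P25

open Subgroup Cfsg Cfsg.Agent Cfsg.Agent.FT Cfsg.Agent.H9 Module
open QuotientGroup (mk' ker_mk')
open scoped commutatorElement IsMulCommutative

universe u v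

variable {X : Type u} [Group X] [Finite X]

theorem exists_repq {p : ℕ} [Fact p.Prime] (E : Subgroup X) [E.Normal]
    (hE : IsElementaryAbelian p E) :
    ∃ (V : Type u) (_ : AddCommGroup V) (_ : Module (AlgebraicClosure (ZMod p)) V)
      (_ : FiniteDimensional (AlgebraicClosure (ZMod p)) V)
      (ρ : X ⧸ E →* End (AlgebraicClosure (ZMod p)) V),
      (∀ N : Subgroup X, N ⊓ 𝐂(E) ≤ E → N.map (mk' E) ⊓ ρ.ker = ⊥) ∧
      (∀ (B : Subgroup X) (c : X), E ⊓ 𝐂(B) ≤ 𝐂[c] →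
        ∀ w, ρ c (sumRep ρ (B.map (mk' E)) w) = sumRep ρ (B.map (mk' E)) w) ∧
      ∀ B : Subgroup X, 𝐨(B).Coprime p → E ⊓ 𝐂(B) = ⊥ →
        ∀ w, (∀ b ∈ B.map (mk' E), ρ b w = w) → w = 0 := by
  have ht : p.Prime := Fact.out
  have := hE.1
  have he : ∀ v : E, v ^ p = 1 := H1.pow_eq_one_of_isElementaryAbelian hE
  let φ : X ⧸ E →* MulAut E := QuotientGroup.lift E MulAut.conjNormal fun x hx =>
    MulEquiv.ext fun y => Subtype.ext (by
      rw [MulAut.conjNormal_apply, ← mem_cent.1 (isMulComm_iff_le_cent.1 hE.1 hx) y y.2]; simp)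
  let ρ₀ := H1.autRep he φ
  have hfix : ∀ (x : X) (v : E), ρ₀ x (H1.eaOf he v) = H1.eaOf he v ↔ x * v = (v : X) * x := by
    intro x v
    rw [H1.autRep_apply, (H1.eaOf he).injective.eq_iff, Subtype.ext_iff]
    exact mul_inv_eq_iff_eq_mul
  have hmem : ∀ (B : Subgroup X) (v : E), (∀ a ∈ B.map (mk' E), ρ₀ a (H1.eaOf he v) = H1.eaOf he v) →
      (v : X) ∈ E ⊓ 𝐂(B) := fun B v hv =>
    mem_inf.mpr ⟨v.2, mem_cent.2 fun a ha => (hfix a v).mp (hv a ⟨a, ha, rfl⟩)⟩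
  refine ⟨_, inferInstance, inferInstance, inferInstance,
    H1.baseChangeRep (AlgebraicClosure (ZMod p)) ρ₀, fun N hN => eq_bot_iff.2 ?_,
    fun B c hc w => ?_, fun B hB hx v hv => ?_⟩
  · rintro _ ⟨⟨x, hx, rfl⟩, h⟩
    refine (QuotientGroup.eq_one_iff x).2 (hN ⟨hx, mem_cent.2 fun y hy => ((hfix x ⟨y, hy⟩).1 ?_).symm⟩)
    exact LinearMap.congr_fun ((H1.baseChangeRep_eq_one_iff _ _ _).1 h) _
  · have e : ρ₀ c * sumRep ρ₀ (B.map (mk' E)) = sumRep ρ₀ (B.map (mk' E)) := LinearMap.ext fun v => by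
      obtain ⟨y, hy⟩ := (H1.eaOf he).surjective (sumRep ρ₀ (B.map (mk' E)) v)
      rw [End.mul_apply, ← hy, hfix]
      exact mem_cent1.1 (hc (hmem B y fun a ha => by rw [hy]; exact rep_sumRep_apply _ _ ha v))
    rw [baseChange_sumRep, H1.baseChangeRep_apply, ← End.mul_apply, ← map_mul, e]
  · have := baseChange_eq_zero_on_fix _ ρ₀ (B.map (mk' E)) (H1.cast_ne_zero_of_coprime ht
      (hB.coprime_dvd_left (card_map_dvd _ _))) 1 (fun w hw => by
      obtain ⟨w, rfl⟩ := (H1.eaOf he).surjective w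
      have h1 := hmem B w hw
      rw [hx, mem_bot] at h1
      rw [show w = 1 from Subtype.ext h1]; rfl) v hv
    rwa [map_one] at this

theorem eq_bot_of_fpf {Q F : Subgroup X} {p : ℕ} (hp : p.Prime) (hQ : IsPGroup p Q)
    (hF : IsPGroup p F) (hn : F ≤ 𝐍(Q)) (h : Q ⊓ 𝐂(F) = ⊥) : Q = ⊥ := by_contra fun e =>
  inf_center_ne_bot (isNilpotent_of_isPGroup hp (IsPGroup.to_sup_of_normal_left' hQ hF hn))
    ⟨le_sup_left, sup_le (le_norm_self Q) hn⟩ e
    (eq_bot_iff.2 (h ▸ inf_le_inf_left _ (cent_anti le_sup_right)))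

variable {A : Type v} [Group A] [Finite A] {F H : Subgroup A}

section Frob

theorem quo_frob (hs : P11.SR F H) : Quo.{u} F H 1 := fun X _ _ V i p h el g hg => by
  haveI := h.nrm
  haveI := el.1
  obtain ⟨v, hv, e⟩ := P24.cover_ab (φ := MulAut.conj.comp i) hs (V := V)
    (fun a x hx => Normal.conj_mem inferInstance x hx (i a))
    (fun x hx e => mem_bot.1 (h.fpf ▸ ⟨hx, mem_cent.2 (by
      rintro _ ⟨a, ha, rfl⟩; exact mul_inv_eq_iff_eq_mul.1 (e a ha))⟩))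
    (g := g) fun b hb => hg _ ⟨b, hb, rfl⟩
  exact ⟨v, hv, mem_cent.2 (by rintro _ ⟨a, ha, rfl⟩; exact mul_inv_eq_iff_eq_mul.1 (e a ha))⟩

theorem base_frob [F.Normal] (hF : Group.IsNilpotent F) (hs : P11.SR F H) : Base.{u} F H 1 :=
  fun X _ _ V i p h _ _ e => by
  haveI := h.nrm
  have m : ∀ (B : Subgroup A) (v : V), (∀ b ∈ B, (MulAut.conjNormal.comp i) b v = v) →
      (v : X) ∈ V ⊓ 𝐂(B.map i) := fun B v hv => ⟨v.2, mem_cent.2 (by
    rintro _ ⟨a, ha, rfl⟩; exact mul_inv_eq_iff_eq_mul.1 (congrArg Subtype.val (hv a ha)))⟩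
  have := P24.card_solv hF hs _ V (MulAut.conjNormal.comp i) rfl h.sol fun g hg =>
    Subtype.ext (mem_bot.1 (h.fpf ▸ m F g hg))
  rwa [(eq_bot_iff.2 fun g hg => Subtype.ext (mem_bot.1 (e ▸ m H g hg)) :
    H1.fixedSub (MulAut.conjNormal.comp i) H = ⊥), card_bot, one_pow, card_eq_one] at this

theorem ker_frob (hF : Group.IsNilpotent F) (hs : P11.SR F H) : Ker.{u} F H 1 :=
  fun X _ _ N V _ i p q h VN _ hp hq pq el pN c1 c hc c2 => by
  haveI := Fact.mk hp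
  obtain ⟨W, _, _, _, ρ, r1, r2, -⟩ := exists_repq V el
  have h' := h.mapq hF hp el VN
  haveI := h'.nrm
  have nF := (isNilpotent_map_iff h'.injective).2 hF
  have HF : H.map ((mk' V).comp i) ≤ 𝐍(F.map ((mk' V).comp i)) :=
    (map_le_norm_iff h'.injective).2 (le_normalizer_iff.2 hs.conj)
  have le := H2.pPrimeCoreOf_le q (F.map ((mk' V).comp i))
  refine (QuotientGroup.eq_one_iff c).1 (k1 (ρ := ρ) (F := H2.pPrimeCoreOf q (F.map ((mk' V).comp i)))
    hq (H1.cast_ne_zero_of_prime_ne hp hq pq.symm) (SemiReg.mono (semiReg_iff.2 ?_) le le_rfl)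
    (HF.trans (H2.normalizer_le_normalizer_pPrimeCoreOf q _))
    (H1.isSolvable_of_le le (isSolvable_of_isNilpotent nF)) (H2.coprime_card_pPrimeCoreOf q _) pN
    le_normalizer_of_normal (fpf_part hq nF pN le_normalizer_of_normal h'.fpf) (r1 N c1)
    ⟨c, hc.1, rfl⟩ (H.map_map (mk' V) i ▸ (map_cent_le (mk' V) N _ ⟨c, hc, rfl⟩).2)
    (H.map_map (mk' V) i ▸ r2 _ c c2))
  rintro _ ⟨x, hx, rfl⟩ x1 _ ⟨y, hy, rfl⟩ e
  rw [hs.fpf x hx (fun e => x1 (by rw [e, map_one])) y hy (h'.injective (by simpa using e)), map_one]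

end Frob

section Ext

variable {σ : A} {r s : ℕ}

theorem quo_ext (σ1 : σ ^ r = 1) : Quo.{u} F (zpowers σ) r := fun X _ _ V i p h _ g hg => by
  haveI := h.nrm
  exact H1.exists_mul_mem_centralizer' le_normalizer_of_normal
    ((coprime_card_zpowers σ1 h.cop.symm).coprime_dvd_left (card_map_dvd _ _)) (Or.inr h.sol) hg

theorem Cl.ne {X : Type u} [Group X] [Finite X] {V : Subgroup X} {i : A →* X} (h : Cl F r V i)
    (hr : r.Prime) (hs : s.Prime) (hF : IsPGroup s F) {p : ℕ} (hp : p.Prime) (hV : IsPGroup p V)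
    (V0 : V ≠ ⊥) : r.Coprime p ∧ 𝐨(F.map i).Coprime p := by
  haveI := h.nrm
  haveI := Fact.mk hs
  refine ⟨(Nat.coprime_primes hr hp).2 fun e => V0 ?_, (H1.coprime_card_of_isPGroup (hF.map i)
    ((Nat.coprime_primes hp hs).2 fun e => V0 (eq_bot_of_fpf hs (e ▸ hV) (hF.map i)
      le_normalizer_of_normal h.fpf))).symm⟩
  obtain ⟨n, hn⟩ := exists_card_eq_pow hp hV
  have := h.cop
  rw [hn, e] at this
  rw [← card_eq_one, hn]
  exact Nat.Coprime.eq_one_of_dvd (this.pow_right n) dvd_rfl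

theorem ker_ext (hr : r.Prime) (hs : s.Prime) (rs : r ≠ s) (σ1 : σ ^ r = 1) (σF : σ ∈ 𝐍(F))
    (hF : IsPGroup s F) (hC : 𝐨((F ⊓ 𝐂[σ] : Subgroup A)) ∣ s) : Ker.{u} F (zpowers σ) r :=
  fun X _ _ N V _ i p q h VN V0 hp hq pq el pN c1 c hc c2 => by
  haveI := Fact.mk hp
  haveI := Fact.mk hs
  obtain ⟨W, _, _, _, ρ, r1, r2, r3⟩ := exists_repq V el
  have h' := h.mapq (isNilpotent_of_isPGroup hs hF) hp el VN
  haveI := h'.nrm
  by_cases Q0 : N.map (mk' V) = ⊥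
  · exact ker_mk' V ▸ (Subgroup.map_eq_bot_iff _).1 Q0 hc.1
  obtain ⟨a1, a2⟩ := h'.ne hr hs hF hq pN Q0
  obtain ⟨b1, b2⟩ := (h.mono VN).ne hr hs hF hp (L.IsElementaryAbelian.isPGroup el) V0
  have σ2 : ((mk' V).comp i σ) ^ r = 1 := by rw [← map_pow, σ1, map_one]
  have z : ((zpowers σ).map i).map (mk' V) = zpowers ((mk' V).comp i σ) := by
    rw [Subgroup.map_map, MonoidHom.map_zpowers]
  refine (QuotientGroup.eq_one_iff c).1 (k2 (ρ := ρ) (F := F.map ((mk' V).comp i)) hq hr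
    (H1.cast_ne_zero_of_prime_ne hp hq pq.symm) σ2 (le_normalizer_map _ ⟨σ, σF, rfl⟩)
    (le_normalizer_of_normal (mem_top _)) le_normalizer_of_normal pN a1 a2
    (H1.coprime_card_of_isPGroup (hF.map _) ((Nat.coprime_primes hr hs).2 rs))
    (H1.cast_ne_zero_of_coprime hp (F.map_map (mk' V) i ▸ b2.coprime_dvd_left (card_map_dvd _ _)))
    (fun L l1 l2 => ?_) h'.fpf (F.map_map (mk' V) i ▸ r3 _ b2 (h.mono VN).fpf) (r1 N c1) ⟨c, hc.1, rfl⟩
    (by rw [← cent_zpowers, ← z]; exact (map_cent_le (mk' V) N _ ⟨c, hc, rfl⟩).2) fun v hv => ?_)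
  · rw [← card_map_inj h'.injective, map_inf_cent1 h'.injective] at hC
    refine (eq_of_le_of_card_ge l1 ((Nat.le_of_dvd hs.pos hC).trans ?_)).ge
    exact (((Nat.dvd_prime hs).1 ((FT.card_dvd_of_le l1).trans hC)).resolve_left
      (mt card_eq_one.1 l2)).ge
  · have := r2 _ c c2 v
    rw [z, sumRep_apply_of_fix _ _ fun a ha => fix_of_mem_zpowers hv ha, map_smul] at this
    exact smul_right_injective _ (H1.cast_ne_zero_of_coprime hp (coprime_card_zpowers σ2 b1)) this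

theorem base_ext (hr : r.Prime) (hs : s.Prime) (rs : r ≠ s) (σ1 : σ ^ r = 1) (σF : σ ∈ 𝐍(F))
    (hF : IsPGroup s F) (hc : ⁅F, zpowers σ⁆ = F) (hn : ¬ ∃ k : ℕ, r = 2 ^ k + 1) :
    Base.{u} F (zpowers σ) r := fun X _ _ V i p h hp el e => by
  by_contra V0
  haveI := Fact.mk hp
  haveI := Fact.mk hs
  haveI := h.nrm
  obtain ⟨b1, b2⟩ := h.ne hr hs hF hp (L.IsElementaryAbelian.isPGroup el) V0
  obtain ⟨W, _, _, _, ρ, r1, -, r3, -⟩ := exists_rep_elem V el
  have σ2 : i σ ^ r = 1 := by rw [← map_pow, σ1, map_one]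
  rw [MonoidHom.map_zpowers] at e
  obtain ⟨q, hq, -, -, n, d, n1, n2, d1, e⟩ := H1.hall_higman_coprime hr
    (H1.cast_ne_zero_of_coprime hp b1) ρ (Q := F.map i)
    (H1.coprime_card_of_isPGroup (hF.map _) ((Nat.coprime_primes hr hs).2 rs)).symm
    (H1.cast_ne_zero_of_coprime hp b2) (le_normalizer_map _ ⟨σ, σF, rfl⟩) (m := 0)
    (by rw [← map_pow, zero_add, pow_one, σ2, map_one]) (by
      by_contra! c
      refine V0 (eq_bot_iff.2 (h.fpf ▸ le_inf le_rfl (cent_comm.1 ?_)))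
      rw [← hc, map_commutator, MonoidHom.map_zpowers]
      exact H1.commutator_zpowers_le (le_normalizer_of_normal (mem_top _)) fun g hg =>
        (r1 _).1 (by simpa using c g hg))
    fun v hv => r3 _ (coprime_card_zpowers σ2 b1) e v fun a ha => fix_of_mem_zpowers hv ha
  rw [show n = 1 by omega, pow_one] at e
  rcases hq.eq_two_or_odd' with rfl | o
  · exact hn ⟨d, e⟩
  · exact hn ⟨0, (hr.even_iff).1 (e ▸ (o.pow).add_one)⟩

end Ext

end Cfsg.Agent.P25
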