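/-
P25: applications.
-/
import Cfsg.Agent.P25.Inst
import Cfsg.Agent.P24.App

set_option autoImplicit false
set_option linter.unusedSectionVars false
set_option linter.style.haveILetI false

namespace Cfsg.Agent.P25

open Subgroup Cfsg Cfsg.Agent Cfsg.Agent.FT

universe u v

theorem s4362 {G : Type u} {A : Type v} [Group G] [Finite G] [Group A] [Finite A]
    [MulDistribMulAction A G] (fpf : P24.FpfStmt.{u}) {Fk Hc : Subgroup A} [Fk.Normal]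
    (hHc : Cfsg.IsFrobeniusComplement Hc) (hker : Cfsg.frobeniusKernel Hc = (Fk : Set A))
    (hCF : ∀ g : G, (∀ f ∈ Fk, f • g = g) → g = 1) (C : Subgroup G)
    (hC : ∀ g : G, g ∈ C ↔ ∀ h ∈ Hc, h • g = g) (n : ℕ) : L.FitLE n G ↔ L.FitLE n C := by
  refine ⟨fun h => h.subgroup C, fun h => ?_⟩
  have hF := H5.isNilpotent_frobeniusKernel hHc hker
  have hs := P24.sr_of_frob hHc hker
  let φ := MulDistribMulAction.toMulAut A G
  haveI := fpf.solv φ hF hCF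
  have e : ∀ B : Subgroup A, H1.sdL φ ⊤ ⊓ 𝐂(B.map SemidirectProduct.inr) =
      H1.sdL φ (⊤ ⊓ H1.fixedSub φ B) := H1.sdL_inf_centralizer ⊤
  have := height hF (quo_frob hs) (ker_frob hF hs) (base_frob hF hs) n (G ⋊[φ] A) (H1.sdL φ ⊤)
    SemidirectProduct.inr ⟨inferInstance, L.isSolvable_map _ _, fun a ⟨g, _, e⟩ => by
      simpa using (congrArg SemidirectProduct.right e).symm, by
      rw [e, H1.sdL_eq_bot, eq_bot_iff]; exact fun g hg => hCF g hg.2, Nat.coprime_one_right _⟩ (by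
      rw [e, top_inf_eq, show H1.fixedSub φ Hc = C from Subgroup.ext fun g => (hC g).symm]
      exact h.map _)
  exact L.fitLE_top.1 (this.of_mulEquiv
    (equivMapOfInjective ⊤ _ SemidirectProduct.inl_injective).symm)

variable {Γ : Type u} [Group Γ] [Finite Γ] {R F X : Subgroup Γ} {r s : ℕ}

theorem ext_aux (fpf : P24.FpfStmt.{u}) (hr : r.Prime) (hs : s.Prime) (hR : 𝐨(R) = r)
    (hF : IsExtraspecial s F) (hRF : R ≤ 𝐍(F)) (hcomm : ⁅F, R⁆ = F) (hRX : R ≤ 𝐍(X))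
    (hFX : F ≤ 𝐍(X)) (hdisj : (R ⊔ F) ⊓ X = ⊥) (hcop : ¬ r ∣ 𝐨(X)) (hCF : X ⊓ 𝐂(F) = ⊥) :
    ∃ (A : Type u) (_ : Group A) (_ : Finite A) (F' : Subgroup A) (σ : A) (Y : Type u) (_ : Group Y)
      (_ : Finite Y) (G : Subgroup Y) (i : A →* Y) (j : Y →* Γ), Function.Injective j ∧
      Cl F' r G i ∧ G.map j = X ∧ (G ⊓ 𝐂((zpowers σ).map i)).map j = X ⊓ 𝐂(R) ∧ r ≠ s ∧
      σ ^ r = 1 ∧ σ ∈ 𝐍(F') ∧ IsPGroup s F' ∧ 𝐨((F' ⊓ 𝐂[σ] : Subgroup A)) ∣ s ∧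
      ⁅F', zpowers σ⁆ = F' := by
  haveI := Fact.mk hr
  haveI := Fact.mk hs
  obtain ⟨σ, rfl⟩ := isCyclic_iff_zpowers.1 (isCyclic_of_prime_card hR)
  have σ1 : σ ^ r = 1 := by rw [← hR, Nat.card_zpowers, pow_orderOf_eq_one]
  have Z : 𝐨((⁅F, F⁆ : Subgroup Γ)) = s := by
    rw [← map_subtype_der, card_map_inj F.subtype_injective, hF.1.2.2, hF.2]
  have rs : r ≠ s := by
    rintro rfl
    haveI := isNilpotent_of_isPGroup hr (IsPGroup.to_sup_of_normal_left' hF.1.1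
      (IsPGroup.of_card (hR.trans (pow_one r).symm)) hRF)
    refine (L.commutator_lt_of_isNilpotent le_sup_left (sup_le (le_norm_self F) hRF) ?_).not_ge
      (hcomm.ge.trans (commutator_mono le_rfl le_sup_right))
    rintro rfl
    rw [commutator_bot_left, card_bot] at Z
    exact hr.one_lt.ne Z
  have a := (zpowers σ ⊔ F).subtype_injective
  have j := 𝐍(X).subtype_injective
  have mF := map_subgroupOf_eq_of_le (le_sup_right : F ≤ zpowers σ ⊔ F)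
  have mX := map_subgroupOf_eq_of_le (le_norm_self X)
  let τ : ↥(zpowers σ ⊔ F) := ⟨σ, mem_sup_left (mem_zpowers σ)⟩
  have mσ : (zpowers τ).map (zpowers σ ⊔ F).subtype = zpowers σ := MonoidHom.map_zpowers _ _
  have c : ∀ B : Subgroup ↥(zpowers σ ⊔ F), (X.subgroupOf 𝐍(X) ⊓
      𝐂(B.map (inclusion (sup_le hRX hFX)))).map 𝐍(X).subtype =
      X ⊓ 𝐂(B.map (zpowers σ ⊔ F).subtype) := fun B => by
    rw [map_inf_cent j, mX, map_map]; rfl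
  refine ⟨_, _, inferInstance, F.subgroupOf (zpowers σ ⊔ F), τ, _, _, inferInstance,
    X.subgroupOf 𝐍(X), inclusion (sup_le hRX hFX), _, j, ⟨H1.normal_subgroupOf_of_le le_rfl, ?_,
    fun x hx => Subtype.ext (mem_bot.1 (hdisj ▸ ⟨x.2, hx⟩)),
    (Subgroup.map_eq_bot_iff_of_injective _ j).1 (by rw [c, mF, hCF]), ?_⟩, mX, by rw [c, mσ], rs,
    Subtype.ext σ1, zpowers_le.1 ((map_le_norm_iff a).1 (by rwa [mF, mσ])),
    (isPGroup_map_iff a).1 (mF.symm ▸ hF.1.1), ?_, map_injective a (by rwa [map_commutator, mF, mσ])⟩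
  · rw [← isSolvable_map_iff j, mX]
    exact fpf.solv (H1.conjAut hFX) (F := ⊤) (isNilpotent_of_isPGroup hs (hF.1.1.to_subgroup _))
      fun g hg => Subtype.ext (mem_bot.1 (hCF ▸ ⟨g.2, mem_cent.2 fun f hf =>
        mul_inv_eq_iff_eq_mul.1 (congrArg Subtype.val (hg ⟨f, hf⟩ trivial))⟩))
  · rw [← card_map_inj j, mX]
    exact (hr.coprime_iff_not_dvd.2 hcop).symm
  · rw [← card_map_inj a, map_inf_cent1 a, mF, ← Z]
    refine FT.card_dvd_of_le (le_trans ?_ (H9.inf_centralizer_le_commutator hRF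
      (hR ▸ H1.coprime_card_of_isPGroup hF.1.1 ((Nat.coprime_primes hr hs).2 rs))))
    rw [hcomm, cent_zpowers]; rfl

theorem s4360 (fpf : P24.FpfStmt.{u}) (hr : r.Prime) (hs : s.Prime) (hR : 𝐨(R) = r)
    (hF : IsExtraspecial s F) (hRF : R ≤ 𝐍(F)) (hcomm : ⁅F, R⁆ = F) (hRX : R ≤ 𝐍(X))
    (hFX : F ≤ 𝐍(X)) (hdisj : (R ⊔ F) ⊓ X = ⊥) (hcop : ¬ r ∣ 𝐨(X)) (hCF : X ⊓ 𝐂(F) = ⊥) :
    fittingOf (X ⊓ 𝐂(R)) ≤ fittingOf X := by
  obtain ⟨A, _, _, F', σ, Y, _, _, G, i, j, hj, h, e1, e2, a1, a2, a3, a4, a5, -⟩ :=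
    ext_aux fpf hr hs hR hF hRF hcomm hRX hFX hdisj hcop hCF
  rw [← e2, ← e1, fittingOf_map hj, fittingOf_map hj]
  exact map_mono (fit_le (isNilpotent_of_isPGroup hs a4) (quo_ext a2)
    (ker_ext hr hs a1 a2 a3 a4 a5) h)

theorem s4361 (fpf : P24.FpfStmt.{u}) (hr : r.Prime) (hn : ¬ ∃ k : ℕ, r = 2 ^ k + 1) (hs : s.Prime)
    (hR : 𝐨(R) = r) (hF : IsExtraspecial s F) (hRF : R ≤ 𝐍(F)) (hcomm : ⁅F, R⁆ = F)
    (hRX : R ≤ 𝐍(X)) (hFX : F ≤ 𝐍(X)) (hdisj : (R ⊔ F) ⊓ X = ⊥) (hcop : ¬ r ∣ 𝐨(X))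
    (hCF : X ⊓ 𝐂(F) = ⊥) (n : ℕ) : L.FitLE n X ↔ L.FitLE n (X ⊓ 𝐂(R) : Subgroup Γ) := by
  refine ⟨fun h => h.of_le inf_le_left, fun h0 => ?_⟩
  obtain ⟨A, _, _, F', σ, Y, _, _, G, i, j, hj, h, e1, e2, a1, a2, a3, a4, a5, a6⟩ :=
    ext_aux fpf hr hs hR hF hRF hcomm hRX hFX hdisj hcop hCF
  rw [← e2] at h0
  exact e1 ▸ (height (isNilpotent_of_isPGroup hs a4) (quo_ext a2) (ker_ext hr hs a1 a2 a3 a4 a5)
    (base_ext hr hs a1 a2 a3 a4 a6 hn) n Y G i h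
    (h0.of_mulEquiv (equivMapOfInjective _ j hj).symm)).map j

end Cfsg.Agent.P25
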